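import Cfsg.Agent.Lib.Chevalley.Twist.AbInst
import Cfsg.Agent.Lib.KnownA.SteinbergCentral
import Mathlib.Algebra.Field.Subfield.Basic

/-!
# The rank-one data of an orbit of commuting roots
-/

set_option autoImplicit false

namespace CfsgLib.KnownA.TwistMultiplier

open CfsgLib.Chevalley CfsgLib.Chevalley.Tbl

variable {T : Tbl} {F : Type*} [Field F]

/-! ### Cycle words -/

section Cycle

variable (D : TwistData T F) {L : List ℕ}

theorem iterate_ring (e : ℕ) (s t : F) :
    (⇑D.f)^[e] (s + t) = (⇑D.f)^[e] s + (⇑D.f)^[e] t ∧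
      (⇑D.f)^[e] (s * t) = (⇑D.f)^[e] s * (⇑D.f)^[e] t ∧
      (⇑D.f)^[e] (-s) = -(⇑D.f)^[e] s ∧ (⇑D.f)^[e] s⁻¹ = ((⇑D.f)^[e] s)⁻¹ := by
  induction e with
  | zero => exact ⟨rfl, rfl, rfl, rfl⟩
  | succ e ih =>
    obtain ⟨a, b, c, d⟩ := ih
    simp only [Function.iterate_succ_apply', a, b, c, d, map_add, map_mul, map_neg, map_inv₀, and_self]

theorem cyc_add (hL : T.chkAb D.M L = true) (s t : F) :
    T.gprod (cycWord D.f L s) * T.gprod (cycWord D.f L t) = T.gprod (cycWord D.f L (s + t)) := by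
  rw [gprod, gprod, gprod, cycWord, cycWord, cycWord, List.map_map, List.map_map, List.map_map]
  simp only [Function.comp_def]
  rw [list_prod_mul_of_commute _ List.nodup_range _ _
      (fun i hi k hk _ => D.ab_commute hL (List.mem_range.mp hi) (List.mem_range.mp hk) _ _)]
  refine congrArg List.prod (List.map_congr_left fun e he => ?_)
  rw [xU_add D.ok.valid ((D.chkAb_facts hL).2 e (List.mem_range.mp he)).1, (iterate_ring D e s t).1]

theorem getD_neg {i : ℕ} (hi : i < L.length) : (L.map T.neg).getD i 0 = T.neg (L.getD i 0) := by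
  rw [List.getD_eq_getElem _ _ (by simpa using hi), List.getElem_map, List.getD_eq_getElem _ _ hi]

/-- The product of the `n`'s of a cycle. -/
noncomputable def cycN (L : List ℕ) (t : F) : GL T.I F :=
  T.gprod (cycWord D.f L t) * T.gprod (cycWord D.f (L.map T.neg) (-t⁻¹)) * T.gprod (cycWord D.f L t)

variable (hL : T.chkAb D.M L = true) (hL' : T.chkAb D.M (L.map T.neg) = true)
include hL

theorem cycN_eq (t : F) :
    cycN D L t = ((List.range L.length).map fun e => T.nU F (L.getD e 0) ((⇑D.f)^[e] t)).prod :=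
  D.cyc_nU hL t

theorem cycN_mem (t : Fˣ) : cycN D L (t : F) ∈ T.datum.monomialSubgroup F := by
  rw [cycN_eq D hL]
  refine list_prod_mem fun x hx => ?_
  obtain ⟨e, he, rfl⟩ := List.mem_map.mp hx
  have hne : (⇑D.f)^[e] (t : F) ≠ 0 := fun h =>
    t.ne_zero (Function.Injective.iterate D.f.injective e (h.trans (Function.iterate_fixed (map_zero D.f) e).symm))
  exact SteinbergUniv.YLift.nU_mem_monomial D.ok.valid ((D.chkAb_facts hL).2 e (List.mem_range.mp he)).1
    (Units.mk0 _ hne)

include hL' in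
theorem cycN_conj {t : F} (ht : t ≠ 0) (u : F) :
    cycN D L t * T.gprod (cycWord D.f L u) =
      T.gprod (cycWord D.f (L.map T.neg) (-u / t ^ 2)) * cycN D L t := by
  have hT := D.ok.valid
  obtain ⟨-, hf⟩ := D.chkAb_facts hL
  rw [cycN_eq D hL, gprod, gprod, cycWord, cycWord, List.length_map, List.map_map, List.map_map,
    list_prod_mul_of_commute _ List.nodup_range _ _ ?_, list_prod_mul_of_commute _ List.nodup_range _ _ ?_]
  · refine congrArg List.prod (List.map_congr_left fun e he => ?_)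
    have he' := List.mem_range.mp he
    have hne : (⇑D.f)^[e] t ≠ 0 := fun h =>
      ht (Function.Injective.iterate D.f.injective e (h.trans (Function.iterate_fixed (map_zero D.f) e).symm))
    simp only [Function.comp_apply, getD_neg he']
    have h := SteinbergUniv.YLift.nU_conj_t hT (hf e he').1 (Units.mk0 _ hne) ((⇑D.f)^[e] u)
    rw [mul_inv_eq_iff_eq_mul, Units.val_mk0] at h
    rw [h, div_eq_mul_inv, div_eq_mul_inv, pow_two, pow_two, (iterate_ring D e (-u) (t * t)⁻¹).2.1,
      (iterate_ring D e (t * t) t).2.2.2, (iterate_ring D e t t).2.1, (iterate_ring D e u t).2.2.1]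
  · intro i hi k hk hne
    have hi' := List.mem_range.mp hi
    have hk' := List.mem_range.mp hk
    simp only [Function.comp_apply, getD_neg hk', nU]
    have a2 := D.ab_commute_neg hL hi' hk' hne ((⇑D.f)^[i] t) ((⇑D.f)^[k] (-u / t ^ 2))
    have a3 := D.ab_commute hL' (e := i) (e' := k) (by simpa using hi') (by simpa using hk')
      (-((⇑D.f)^[i] t)⁻¹) ((⇑D.f)^[k] (-u / t ^ 2))
    rw [getD_neg hi', getD_neg hk'] at a3
    exact Commute.mul_left (Commute.mul_left a2 a3) a2
  · intro i hi k hk hne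
    have hi' := List.mem_range.mp hi
    have hk' := List.mem_range.mp hk
    simp only [Function.comp_apply, nU]
    exact Commute.mul_right (Commute.mul_right (D.ab_commute hL hi' hk' _ _)
      (D.ab_commute_neg hL hi' hk' hne _ _)) (D.ab_commute hL hi' hk' _ _)

theorem cycN_neg (hL'' : T.chkAb D.M (L.map T.neg) = true) (t : F) :
    cycN D L (-t) * cycN D L t = 1 := by
  have h0 : ∀ (L : List ℕ), T.chkAb D.M L = true → T.gprod (cycWord D.f L 0) = 1 := fun L hL => by
    have e := cyc_add D hL 0 0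
    rw [add_zero] at e
    exact mul_eq_left.mp e
  rw [cycN, cycN, inv_neg, neg_neg]
  calc _ = T.gprod (cycWord D.f L (-t)) * (T.gprod (cycWord D.f (L.map T.neg) t⁻¹) *
        (T.gprod (cycWord D.f L (-t)) * T.gprod (cycWord D.f L t)) *
        T.gprod (cycWord D.f (L.map T.neg) (-t⁻¹))) * T.gprod (cycWord D.f L t) := by group
    _ = 1 := by
      rw [cyc_add D hL, neg_add_cancel, h0 L hL, mul_one, cyc_add D hL'', add_neg_cancel,
        h0 _ hL'', mul_one, cyc_add D hL, neg_add_cancel, h0 L hL]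

/-- The diagonal element of a cycle. -/
noncomputable def cycH (D : TwistData T F) (L : List ℕ) (t : F) : GL T.I F :=
  cycN D L t * cycN D L (-1)

theorem cycH_eq (t : Fˣ) : cycH D L (t : F) = ((List.range L.length).map fun e => T.dU (T.hCh (L.getD e 0)
      ((⇑(Units.map D.f.toRingHom.toMonoidHom))^[e] t))).prod :=
  (D.cyc_hU hL t).symm

theorem cycH_mul {a b : F} (ha : a ≠ 0) (hb : b ≠ 0) :
    cycH D L a * cycH D L b = cycH D L (a * b) := by
  have e1 := cycH_eq D hL (Units.mk0 a ha)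
  have e2 := cycH_eq D hL (Units.mk0 b hb)
  have e3 := cycH_eq D hL (Units.mk0 a ha * Units.mk0 b hb)
  simp only [Units.val_mul, Units.val_mk0] at e1 e2 e3
  rw [e1, e2, e3, list_prod_mul_of_commute _ List.nodup_range _ _ (fun i _ k _ _ => dU_comm _ _)]
  refine congrArg List.prod (List.map_congr_left fun e _ => ?_)
  rw [dU_mul, hCh_mul, iterate_map_mul]

theorem cycH_mem {t : F} (ht : t ≠ 0) : cycH D L t ∈ T.datum.diagonalSubgroup F := by
  have e1 := cycH_eq D hL (Units.mk0 t ht)
  rw [Units.val_mk0] at e1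
  rw [e1]
  refine list_prod_mem fun x hx => ?_
  obtain ⟨e, he, rfl⟩ := List.mem_map.mp hx
  rw [diagonalSubgroup_eq D.ok.valid]
  exact Subgroup.subset_closure ⟨_, ((D.chkAb_facts hL).2 e (List.mem_range.mp he)).1, _, rfl⟩

end Cycle

/-! ### The data of one orbit -/

variable (A : AbSetup T F)

/-- The parameters of an orbit as a subfield. -/
def par (j : ℕ) : Subfield F :=
  RingHom.eqLocusField (A.D.f.toRingHom ^ (A.Ss.getD j []).length) (RingHom.id F)

theorem mem_par {j : ℕ} {t : F} : t ∈ par A j ↔ A.Fit j t := by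
  show (A.D.f.toRingHom ^ (A.Ss.getD j []).length) t = RingHom.id F t ↔ _
  rw [RingHom.coe_pow]
  rfl

/-- The root elements of an orbit. -/
noncomputable def xo (j : ℕ) (t : F) : GL T.I F := T.gprod (cycWord A.D.f (A.L j) t)

/-- The negative root elements of an orbit. -/
noncomputable def yo (j : ℕ) (t : F) : GL T.I F := T.gprod (cycWord A.D.f ((A.L j).map T.neg) t)

/-- The fixed part of the positive unipotent group. -/
noncomputable def posFix : Subgroup (GL T.I F) := A.S.fix ⊓ T.rootGen F (fun r => T.half ≤ r)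

theorem xo_add {j : ℕ} (hj : j < A.o) (s t : F) : xo A j s * xo A j t = xo A j (s + t) :=
  cyc_add A.D (A.facts hj).1 s t

theorem yo_add {j : ℕ} (hj : j < A.o) (s t : F) : yo A j s * yo A j t = yo A j (s + t) :=
  cyc_add A.D (A.facts hj).2.1 s t

theorem xo_zero {j : ℕ} (hj : j < A.o) : xo A j 0 = 1 := by
  have e := xo_add A hj 0 0
  rw [add_zero] at e
  exact mul_eq_left.mp e

theorem yo_zero {j : ℕ} (hj : j < A.o) : yo A j 0 = 1 := by
  have e := yo_add A hj 0 0
  rw [add_zero] at e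
  exact mul_eq_left.mp e

theorem xo_mem_negSet (j : Fin A.o) (t : F) :
    xo A j t ∈ T.rootGen F (T.negSet (A.S.wJ A.O j)) :=
  A.D.word_mem_negSet A.hO j rfl fun p hp => by
    obtain ⟨e, he, rfl⟩ := List.mem_map.mp hp
    refine (A.facts j.2).2.2.2.mem_iff.mpr ?_
    show (A.L j).getD e 0 ∈ _
    rw [List.getD_eq_getElem _ _ (List.mem_range.mp he)]; exact List.getElem_mem _

theorem xo_mem_posFix (j : Fin A.o) {t : F} (ht : A.Fit j t) : xo A j t ∈ posFix A :=
  Subgroup.mem_inf.mpr ⟨A.pos_fix j.2 ht, rootGen_mono (fun _ _ ⟨_, h, _⟩ => h) (xo_mem_negSet A j t)⟩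

theorem cycN_fix {j : ℕ} (hj : j < A.o) {t : F} (ht : A.Fit j t) : cycN A.D (A.L j) t ∈ A.S.fix :=
  mul_mem (mul_mem (A.pos_fix hj ht) (A.neg_fix hj (A.fit_neg (A.fit_inv ht)))) (A.pos_fix hj ht)

/-- The monomial element of an orbit lies over its longest element. -/
theorem mono_cycN (j : Fin A.o) (t : Fˣ) :
    T.Mono (cycN A.D (A.L j) (t : F)) (A.S.wJ A.O j) := by
  have hT := A.S.valid
  have hC := A.S.comm
  obtain ⟨hab, hab', -, -⟩ := A.facts j.2
  have h1 : T.Mono (cycN A.D (A.L j) (1 : F)) (A.S.wJ A.O j) := by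
    have hy : A.Fit j (-(1 : F)⁻¹) := A.fit_neg (A.fit_inv (A.fit_one j))
    obtain ⟨q, -, hq, n, -, hn, hm, u, -, hu, e⟩ := Twist.vJ_canonical (S := A.S) (O := A.O) j
      (A.neg_fix j.2 hy) (A.neg_word_ne_one j.2 (neg_ne_zero.mpr (inv_ne_zero one_ne_zero)))
      (A.neg_word_VJ j _)
    have hN := cycN_mem A.D hab (1 : Fˣ)
    rw [Units.val_one] at hN
    have hB : ∀ {x : GL T.I F}, x ∈ T.rootGen F (T.negSet (A.S.wJ A.O j)) →
        x ∈ T.datum.borelSubgroup F := fun {x} hx => Subgroup.mem_sup_left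
      ((posUnipotent_rootGen (F := F) hT).symm ▸ rootGen_mono (fun _ _ ⟨_, h, _⟩ => h) hx)
    obtain ⟨v, -, hv⟩ := exists_mono hT hN
    obtain ⟨hd, -⟩ := canonical_unique hT hC
      (mul_mem (hB (xo_mem_negSet A j 1)) (hB hq)) (one_mem _) hn hN hm
      (mul_mem hu (xo_mem_negSet A j 1)) (one_mem (T.rootGen F (T.negSet v)))
      (b' := 1) (u' := 1) (by
        rw [one_mul, mul_one, cycN, e]
        simp only [xo, mul_assoc])
    have h := hm.mul (mono_diag hT hd)
    rwa [mul_inv_cancel_left, mul_one] at h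
  have e : cycN A.D (A.L j) (t : F) = cycH A.D (A.L j) (t : F) * cycN A.D (A.L j) 1 := by
    rw [cycH, mul_assoc, cycN_neg A.D hab hab', mul_one]
  rw [e]
  simpa using (mono_diag hT (cycH_mem A.D hab t.ne_zero)).mul h1

theorem xo_eq_one {j : ℕ} (hj : j < A.o) {t : F} (h : xo A j t = 1) : t = 0 := by
  by_contra ht
  obtain ⟨hab, hab', -, -⟩ := A.facts hj
  have e := cycN_conj A.D hab hab' (one_ne_zero (α := F)) t
  rw [show T.gprod (cycWord A.D.f (A.L j) t) = 1 from h, mul_one, right_eq_mul] at e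
  exact A.neg_word_ne_one hj (by simp [ht]) e

end CfsgLib.KnownA.TwistMultiplier
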