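import Cfsg.Agent.Lib.KnownA.TwistMultiplier.Torus

/-!
# Central extensions of twisted groups with kernel of order prime to the characteristic

The lifts of the positive unipotent part and of the monomial elements of the orbits form a section.
-/

set_option autoImplicit false
set_option linter.unusedSectionVars false

namespace CfsgLib.KnownA.TwistMultiplier

open CfsgLib.Chevalley CfsgLib.Chevalley.Tbl
open scoped commutatorElement

variable {T : Tbl} {F : Type*} [Field F]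

section Weyl

variable (A : AbSetup T F)

/-- Product of the longest elements of a word of orbits. -/
noncomputable def wprod (l : List (Fin A.o)) : Equiv.Perm (Fin T.n) := (l.map (A.S.wJ A.O)).prod

theorem wprod_cons (i : Fin A.o) (l : List (Fin A.o)) :
    wprod A (i :: l) = A.S.wJ A.O i * wprod A l := rfl

theorem wprod_append (l l' : List (Fin A.o)) : wprod A (l ++ l') = wprod A l * wprod A l' := by
  induction l with
  | nil => exact (one_mul _).symm
  | cons a l ih => rw [List.cons_append, wprod_cons, wprod_cons, ih, mul_assoc]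

theorem wprod_mem (l : List (Fin A.o)) : wprod A l ∈ A.S.W1 :=
  list_prod_mem fun x hx => by
    obtain ⟨i, -, rfl⟩ := List.mem_map.mp hx
    exact A.S.wJ_mem A.O i

/-- An element making the roots of an orbit positive keeps all of its roots positive. -/
theorem orbit_pos {w : Equiv.Perm (Fin T.n)} (hw : w ∈ A.S.W1) {j : Fin A.o}
    (hall : ∀ i, A.O.orb i = j → T.half ≤ (w (T.simpF A.S.valid i)).val) {r : Fin T.n}
    (hr : T.half ≤ r.val) (hrJ : (A.S.wJ A.O j r).val < T.half) : T.half ≤ (w r).val := by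
  refine half_le_of_co_nonneg A.S.valid (w r).2 fun c hc => ?_
  rw [WP_linear A.S.valid hw.1 r hc]
  refine Finset.sum_nonneg fun k _ => ?_
  by_cases hk : A.O.orb k = j
  · exact mul_nonneg (co_nonneg' A.S.valid hr k.2) (co_nonneg' A.S.valid (hall k hk) hc)
  · rw [A.O.supp j r hr hrJ k hk, zero_mul]

theorem exchange (i : Fin A.o) : ∀ l : List (Fin A.o),
    (∃ s, A.O.orb s = i ∧ (wprod A l (T.simpF A.S.valid s)).val < T.half) →
    ∃ l1 k l2, l = l1 ++ k :: l2 ∧ ∀ r : Fin T.n, T.half ≤ r.val → (A.S.wJ A.O i r).val < T.half →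
      T.half ≤ (wprod A l2 r).val ∧ (A.S.wJ A.O k (wprod A l2 r)).val < T.half
  | [] => fun ⟨s, _, hs⟩ => absurd hs (not_lt.mpr (half_le_simpF A.S.valid s))
  | k :: l => fun ⟨s, hs, hneg⟩ => by
    by_cases hall : ∀ s', A.O.orb s' = i → T.half ≤ (wprod A l (T.simpF A.S.valid s')).val
    · refine ⟨[], k, l, rfl, fun r hr hrJ => ⟨orbit_pos A (wprod_mem A l) hall hr hrJ, ?_⟩⟩
      exact A.S.negSet_of_neg A.O (mul_mem (A.S.wJ_mem A.O k) (wprod_mem A l)) hs hneg hr hrJ
    · push Not at hall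
      obtain ⟨l1, k', l2, rfl, h⟩ := exchange i l hall
      exact ⟨k :: l1, k', l2, rfl, h⟩

end Weyl

variable [Finite F] {A : AbSetup T F} {E : Type*} [Group E] [Finite E]
  {π : E →* GL T.I F} {p : ℕ} [Fact p.Prime] [CharP F p]

namespace TwExt

variable (X : TwExt A π p)
include X

/-- The lifted torus. -/
def T0 : Subgroup E := Subgroup.closure {e | ∃ j, ∃ t ≠ 0, e = (X.R j).h t}

theorem h_mem_T0 (j : Fin A.o) {t : par A j} (ht : t ≠ 0) : (X.R j).h t ∈ X.T0 :=
  Subgroup.subset_closure ⟨j, t, ht, rfl⟩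

theorem T0_over {e : E} (he : e ∈ X.T0) : Over (π := π) e 1 := by
  induction he using Subgroup.closure_induction with
  | mem x hx => obtain ⟨j, t, ht, rfl⟩ := hx; exact X.h_over j ht
  | one => exact Over.one
  | mul a b _ _ ha hb => simpa using ha.mul hb
  | inv a _ ha => simpa using ha.inv

/-- Elements over the torus fix each orbit. -/
theorem conj_one (j : Fin A.o) {v : E} (hv : Over (π := π) v 1) {e : E}
    (he : e ∈ Subgroup.closure (Set.range (X.R j).x ∪ Set.range (X.R j).y)) :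
    v * e * v⁻¹ ∈ Subgroup.closure (Set.range (X.R j).x ∪ Set.range (X.R j).y) :=
  X.conj_orbit hv (fun _ h h' => ⟨by simpa using h, by simpa using h'⟩) he

theorem n_sq (j : Fin A.o) : (X.R j).n 1 * (X.R j).n 1 = (X.R j).h (-1) := by
  have h1 : (-1 : par A j) ≠ 0 := neg_ne_zero.mpr one_ne_zero
  have e := (X.R j).h_mul' h1 h1
  rw [neg_mul_neg, mul_one, (X.R j).h_one] at e
  rw [eq_inv_of_mul_eq_one_left e, Rank1.h, (X.R j).n_neg 1, mul_inv_rev, inv_inv]

theorem n_conj_T0 (i : Fin A.o) {g : E} (hg : g ∈ X.T0) :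
    (X.R i).n 1 * g * ((X.R i).n 1)⁻¹ ∈ X.T0 := by
  induction hg using Subgroup.closure_induction with
  | mem x hx =>
    obtain ⟨j, b, hb, rfl⟩ := hx
    have ho : Over (π := π) ((X.R j).h b) 1 := X.h_over j hb
    have h1 := X.n_over i (one_ne_zero (α := par A i))
    have hm := (ho.mul h1).mul ho.inv
    rw [one_mul, inv_one, mul_one] at hm
    obtain ⟨t, ht, ⟨hw, -⟩ | ⟨-, e⟩⟩ := X.rank_form i (X.conj_one i ho (X.n_mem i 1)) hm.1 hm.2
    · exfalso
      have := A.S.invN_wJ_pos A.O i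
      rw [hw, invN_one A.S.valid] at this
      exact lt_irrefl 0 this
    · have : (X.R i).n 1 * (X.R j).h b * ((X.R i).n 1)⁻¹ = ((X.R i).h t)⁻¹ * (X.R j).h b := by
        calc (X.R i).n 1 * (X.R j).h b * ((X.R i).n 1)⁻¹
            = (X.R i).n 1 * ((X.R j).h b * (X.R i).n 1 * ((X.R j).h b)⁻¹)⁻¹ * (X.R j).h b := by group
          _ = _ := by rw [e]; group
      rw [this]
      exact mul_mem (inv_mem (X.h_mem_T0 i ht)) (X.h_mem_T0 j hb)
  | one => simp
  | mul a b _ _ ha hb => simpa [mul_assoc] using mul_mem ha hb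
  | inv a _ ha => simpa [mul_assoc] using inv_mem ha

/-- The lifted monomial words. -/
noncomputable def nprod (l : List (Fin A.o)) : E := (l.map fun j => (X.R j).n 1).prod

theorem nprod_append (l l' : List (Fin A.o)) : X.nprod (l ++ l') = X.nprod l * X.nprod l' := by
  rw [nprod, List.map_append, List.prod_append]; rfl

theorem nprod_over (l : List (Fin A.o)) : Over (π := π) (X.nprod l) (wprod A l) := by
  induction l with
  | nil => exact Over.one
  | cons j l ih => exact (X.n_over j one_ne_zero).mul ih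

theorem nprod_conj_T0 (l : List (Fin A.o)) : ∀ g ∈ X.T0, X.nprod l * g * (X.nprod l)⁻¹ ∈ X.T0 := by
  induction l with
  | nil => intro g hg; simpa [nprod] using hg
  | cons j l ih =>
    intro g hg
    have := X.n_conj_T0 j (ih g hg)
    simpa [nprod, mul_assoc] using this

theorem nprod_mem_T0 : ∀ k, ∀ l : List (Fin A.o), l.length = k → wprod A l = 1 → X.nprod l ∈ X.T0 := by
  intro k
  induction k using Nat.strong_induction_on with
  | _ k IH =>
  intro l hl hw
  rcases List.eq_nil_or_concat l with rfl | ⟨l0, i, rfl⟩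
  · exact one_mem _
  rw [List.concat_eq_append] at hl hw ⊢
  have hw0 : wprod A l0 = A.S.wJ A.O i := by
    rw [wprod_append, mul_eq_one_iff_eq_inv, show wprod A [i] = A.S.wJ A.O i from mul_one _] at hw
    rw [hw, A.S.wJ_inv A.O i]
  obtain ⟨s, hs⟩ := A.O.onto i
  obtain ⟨l1, j, l2, rfl, h⟩ := exchange A i l0 ⟨s, hs, by rw [hw0]; exact A.O.neg i s hs⟩
  set v := X.nprod l2
  have hm := ((X.nprod_over l2).mul (X.n_over i (one_ne_zero (α := par A i)))).mul (X.nprod_over l2).inv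
  obtain ⟨t, ht, ⟨hw', -⟩ | ⟨hw', e⟩⟩ :=
    X.rank_form j (X.conj_orbit (X.nprod_over l2) h (X.n_mem i 1)) hm.1 hm.2
  · exfalso
    have := A.S.invN_wJ_pos A.O i
    rw [mul_inv_eq_one, mul_eq_left] at hw'
    rw [hw', invN_one A.S.valid] at this
    exact lt_irrefl 0 this
  have hw2 : wprod A (l1 ++ l2) = 1 := by
    rw [← hw, wprod_append, wprod_append, wprod_append, wprod_cons, show wprod A [i] = A.S.wJ A.O i from mul_one _, mul_assoc (wprod A l1), mul_assoc (A.S.wJ A.O j), mul_inv_eq_iff_eq_mul.mp hw',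
      ← mul_assoc (A.S.wJ A.O j), show A.S.wJ A.O j * A.S.wJ A.O j = 1 from A.O.inv j, one_mul]
  have hrec := IH (l1 ++ l2).length (by simp at hl ⊢; omega) _ rfl hw2
  have e1 : X.nprod (l1 ++ j :: l2 ++ [i]) = X.nprod l1 *
      ((X.R j).n 1 * ((X.R j).h t * (X.R j).n 1)) * (X.nprod l1)⁻¹ * X.nprod (l1 ++ l2) := by
    rw [← e, nprod_append, nprod_append, nprod_append,
      show X.nprod (j :: l2) = (X.R j).n 1 * X.nprod l2 from rfl,
      show X.nprod [i] = (X.R i).n 1 by simp [nprod]]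
    group
  rw [e1]
  refine mul_mem (X.nprod_conj_T0 l1 _ ?_) hrec
  rw [show (X.R j).n 1 * ((X.R j).h t * (X.R j).n 1) =
    ((X.R j).n 1 * (X.R j).h t * ((X.R j).n 1)⁻¹) * ((X.R j).n 1 * (X.R j).n 1) by group, X.n_sq]
  exact mul_mem (X.n_conj_T0 j (X.h_mem_T0 j ht)) (X.h_mem_T0 j (neg_ne_zero.mpr one_ne_zero))

/-- The lifted monomial group. -/
def N0 : Subgroup E := Subgroup.closure ({e | e ∈ X.T0} ∪ Set.range fun j => (X.R j).n 1)

theorem n_mem_N0 (j : Fin A.o) : (X.R j).n 1 ∈ X.N0 := Subgroup.subset_closure (Or.inr ⟨j, rfl⟩)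

theorem T0_le_N0 : X.T0 ≤ X.N0 := fun _ h => Subgroup.subset_closure (Or.inl h)

theorem N0_form {e : E} (he : e ∈ X.N0) : ∃ t ∈ X.T0, ∃ l, e = t * X.nprod l := by
  have hn : ∀ (j : Fin A.o) (t : E), t ∈ X.T0 → ∀ l, ∃ t' ∈ X.T0,
      (X.R j).n 1 * (t * X.nprod l) = t' * X.nprod (j :: l) := fun j t ht l =>
    ⟨_, X.n_conj_T0 j ht, by rw [show X.nprod (j :: l) = (X.R j).n 1 * X.nprod l from rfl]; group⟩
  induction he using Subgroup.closure_induction_left with
  | one => exact ⟨1, one_mem _, [], by simp [nprod]⟩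
  | mul_left g hg e _ ih =>
    obtain ⟨t, ht, l, rfl⟩ := ih
    rcases hg with hg | ⟨j, rfl⟩
    · exact ⟨g * t, mul_mem hg ht, l, by rw [mul_assoc]⟩
    · obtain ⟨t', ht', e⟩ := hn j t ht l
      exact ⟨t', ht', _, e⟩
  | inv_mul_cancel g hg e _ ih =>
    obtain ⟨t, ht, l, rfl⟩ := ih
    rcases hg with hg | ⟨j, rfl⟩
    · exact ⟨g⁻¹ * t, mul_mem (inv_mem hg) ht, l, by rw [mul_assoc]⟩
    · obtain ⟨t', ht', e⟩ := hn j t ht l
      refine ⟨((X.R j).h (-1))⁻¹ * t',
        mul_mem (inv_mem (X.h_mem_T0 j (neg_ne_zero.mpr one_ne_zero))) ht', j :: l, ?_⟩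
      rw [mul_assoc, ← e, ← X.n_sq]
      group

theorem N0_over {e : E} (he : e ∈ X.N0) : ∃ w ∈ A.S.W1, Over (π := π) e w := by
  obtain ⟨t, ht, l, rfl⟩ := X.N0_form he
  exact ⟨_, wprod_mem A l, by simpa using (X.T0_over ht).mul (X.nprod_over l)⟩

theorem N0_ker {e : E} (he : e ∈ X.N0) (h : π e = 1) : e ∈ X.T0 := by
  obtain ⟨t, ht, l, rfl⟩ := X.N0_form he
  refine mul_mem ht (X.nprod_mem_T0 _ l rfl ?_)
  have h1 := ((X.T0_over ht).mul (X.nprod_over l)).2
  rw [h] at h1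
  simpa using (h1.unique Mono.one)

theorem exists_U : ∃ U : Subgroup E, U.map π = posFix A ∧ ∀ e, e ∈ U ↔ π e ∈ posFix A ∧ IsP p e := by
  refine X.ext.exists_subgroup ?_ (X.range_eq.symm ▸ inf_le_left)
  rintro ⟨g, hg⟩
  obtain ⟨k, hk⟩ := X.posFix_isP hg
  exact ⟨k, Subtype.ext hk⟩

/-- The lift of the positive unipotent part. -/
noncomputable def U0 : Subgroup E := X.exists_U.choose

theorem mem_U0 {e : E} : e ∈ X.U0 ↔ π e ∈ posFix A ∧ IsP p e := X.exists_U.choose_spec.2 e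

theorem xl_mem_U0 (j : Fin A.o) (t : par A j) : X.xl j t ∈ X.U0 :=
  X.mem_U0.mpr ⟨by rw [X.xl_img]; exact xo_mem_posFix A j (mem_par A |>.mp t.2), X.xl_isP j t⟩

/-- Elements over the torus normalise the lifted unipotent part. -/
theorem conj_U0 {v : E} (hv : Over (π := π) v 1) {u : E} (hu : u ∈ X.U0) : v * u * v⁻¹ ∈ X.U0 := by
  obtain ⟨h1, h2⟩ := X.mem_U0.mp hu
  refine X.mem_U0.mpr ⟨?_, h2.conj v⟩
  rw [map_mul, map_mul, map_inv]
  refine Subgroup.mem_inf.mpr ⟨mul_mem (mul_mem ?_ h1.1) (inv_mem ?_), ?_⟩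
  · exact X.range_eq ▸ ⟨v, rfl⟩
  · exact X.range_eq ▸ ⟨v, rfl⟩
  · exact conj_mem_rootGen A.S.valid hv.2 (fun r hr => by simpa using hr) h1.2

/-- The union of the cells. -/
def cells : Set E := {e | ∃ u ∈ X.U0, ∃ n ∈ X.N0, ∃ u' ∈ X.U0, e = u * n * u'}

theorem cells_U0 {u e : E} (hu : u ∈ X.U0) (he : e ∈ X.cells) : u * e ∈ X.cells := by
  obtain ⟨a, ha, n, hn, b, hb, rfl⟩ := he
  exact ⟨u * a, mul_mem hu ha, n, hn, b, hb, by group⟩

theorem cells_T0 {t e : E} (ht : t ∈ X.T0) (he : e ∈ X.cells) : t * e ∈ X.cells := by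
  obtain ⟨a, ha, n, hn, b, hb, rfl⟩ := he
  exact ⟨t * a * t⁻¹, X.conj_U0 (X.T0_over ht) ha, t * n, mul_mem (X.T0_le_N0 ht) hn, b, hb, by group⟩

theorem cells_n (j : Fin A.o) {e : E} (he : e ∈ X.cells) : (X.R j).n 1 * e ∈ X.cells := by
  obtain ⟨u, hu, n, hn, u', hu', rfl⟩ := he
  have hT := A.S.valid
  have hC := A.S.comm
  set nj := (X.R j).n 1 with hnj
  have hoj : Over (π := π) nj (A.S.wJ A.O j) := X.n_over j one_ne_zero
  obtain ⟨hu1, hu2⟩ := X.mem_U0.mp hu
  obtain ⟨a, ha, b, hb, hab⟩ := exists_pos_factor hT hC (A.S.wJ A.O j) hu1.2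
  have haG := A.S.rootGen_le_group _ ha
  have hbG := A.S.rootGen_le_group _ hb
  have hwJ := (A.S.mem_W1_iff.mp (A.S.wJ_mem A.O j)).2
  have hfix : A.S.sg a * A.S.sg b = a * b := by rw [← A.S.sg_mul haG hbG, ← hab]; exact hu1.1.2
  have hb' := A.S.sg_negSet hb
  rw [hwJ] at hb'
  obtain ⟨h1, h2⟩ := factor_unique hT hC hoj.2 (A.S.sg_posSet hwJ ha) ha hb' hb hfix
  obtain ⟨t0, ht0, htb⟩ := A.exists_word j (Subgroup.mem_inf.mpr ⟨⟨hbG, h2⟩, hb⟩)
  set t : par A j := ⟨t0, (mem_par A).mpr ht0⟩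
  set u1 := u * (X.xl j t)⁻¹ with hu1def
  have hu1m : u1 ∈ X.U0 := mul_mem hu (inv_mem (X.xl_mem_U0 j t))
  have hu1img : π u1 = a := by
    rw [hu1def, map_mul, map_inv, X.xl_img, hab, htb]
    exact mul_inv_cancel_right _ _
  have hv : nj * u1 * nj⁻¹ ∈ X.U0 := by
    refine X.mem_U0.mpr ⟨?_, (X.mem_U0.mp hu1m).2.conj nj⟩
    rw [map_mul, map_mul, map_inv, hu1img]
    exact Subgroup.mem_inf.mpr ⟨mul_mem (mul_mem (X.range_eq ▸ ⟨nj, rfl⟩) ⟨haG, h1⟩)
      (inv_mem (X.range_eq ▸ ⟨nj, rfl⟩)), conj_mem_rootGen hT hoj.2 (fun r ⟨_, _, h⟩ => h) ha⟩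
  suffices h : nj * X.xl j t * n * u' ∈ X.cells by
    have := X.cells_U0 hv h
    rwa [show nj * u1 * nj⁻¹ * (nj * X.xl j t * n * u') = nj * (u * n * u') by
      rw [hu1def]; group] at this
  obtain ⟨w, hwW, hon⟩ := X.N0_over hn
  have hwi : w⁻¹ ∈ A.S.W1 := inv_mem hwW
  by_cases hall : ∀ i, A.O.orb i = j → T.half ≤ (w⁻¹ (T.simpF hT i)).val
  · refine ⟨1, one_mem _, nj * n, mul_mem (X.n_mem_N0 j) hn, n⁻¹ * X.xl j t * n * u',
      mul_mem (X.mem_U0.mpr ⟨?_, ?_⟩) hu', by group⟩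
    · rw [map_mul, map_mul, X.xl_img]
      refine Subgroup.mem_inf.mpr ⟨mul_mem (mul_mem (X.range_eq ▸ ⟨n⁻¹, rfl⟩)
        (A.pos_fix j.2 ht0)) (X.range_eq ▸ ⟨n, rfl⟩), ?_⟩
      have := conj_mem_rootGen hT hon.inv.2 (Q := fun r => T.half ≤ r)
        (fun r ⟨_, h, h'⟩ => orbit_pos A hwi hall h h') (xo_mem_negSet A j t0)
      simpa using this
    · have := (X.xl_isP j t).conj n⁻¹
      rwa [inv_inv] at this
  · push Not at hall
    obtain ⟨i, hij, hneg⟩ := hall
    rcases eq_or_ne t 0 with h0 | h0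
    · rw [h0, show X.xl j (0 : par A j) = 1 from (X.R j).x_zero, mul_one]
      exact ⟨1, one_mem _, nj * n, mul_mem (X.n_mem_N0 j) hn, u', hu', by group⟩
    -- `nj x(t) = x(-1/t) n(1/t) x(-1/t) nj`
    have e1 : nj * X.xl j t = X.xl j (-t⁻¹) * (X.R j).n t⁻¹ * X.xl j (-t⁻¹) * nj := by
      have e := (X.R j).n_x' (one_ne_zero (α := par A j)) t
      rw [mul_inv_eq_iff_eq_mul, one_pow, div_one] at e
      refine e.trans ?_
      show _ = (X.R j).x (-t⁻¹) * (X.R j).n t⁻¹ * (X.R j).x (-t⁻¹) * nj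
      show _ = _ * ((X.R j).x t⁻¹ * (X.R j).y (-t⁻¹⁻¹) * (X.R j).x t⁻¹) * _ * _
      rw [inv_inv]
      simp only [← mul_assoc, (X.R j).x_add, neg_add_cancel, (X.R j).x_zero, one_mul]
      rw [mul_assoc ((X.R j).y (-t)) ((X.R j).x t⁻¹), (X.R j).x_add, add_neg_cancel, (X.R j).x_zero,
        mul_one]
    set z := (nj * n)⁻¹ * X.xl j (-t⁻¹) * (nj * n) with hz
    have hzm : z ∈ X.U0 := by
      refine X.mem_U0.mpr ⟨?_, ?_⟩
      · rw [hz, map_mul, map_mul, X.xl_img]
        refine Subgroup.mem_inf.mpr ⟨mul_mem (mul_mem (X.range_eq ▸ ⟨_, rfl⟩)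
          (A.pos_fix j.2 (mem_par A |>.mp (-t⁻¹).2))) (X.range_eq ▸ ⟨_, rfl⟩), ?_⟩
        have := conj_mem_rootGen hT (hoj.mul hon).inv.2 (Q := fun r => T.half ≤ r)
          (fun r hr => ?_) (xo_mem_negSet A j ((-t⁻¹ : par A j) : F))
        · simpa using this
        · obtain ⟨hr, h, h'⟩ := hr
          show T.half ≤ ((A.S.wJ A.O j * w)⁻¹ ⟨r, hr⟩).val
          rw [mul_inv_rev, Equiv.Perm.mul_apply, A.S.wJ_inv A.O j]
          have h2 : (A.S.wJ A.O j (T.negF (A.S.wJ A.O j r))).val < T.half := by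
            rw [WP_negF hT (A.S.wJ_mem A.O j).1, A.S.wJ_wJ A.O j]; exact negF_lt h
          have h3 := A.S.negSet_of_neg A.O hwi hij hneg (le_negF h') h2
          rw [WP_negF hT hwi.1] at h3
          by_contra h4
          exact absurd h3 (not_lt.mpr (le_negF (not_le.mp h4)))
      · have := (X.xl_isP j (-t⁻¹)).conj (nj * n)⁻¹
        rwa [inv_inv] at this
    refine ⟨X.xl j (-t⁻¹), X.xl_mem_U0 j _, (X.R j).n t⁻¹ * (nj * n), mul_mem ?_
      (mul_mem (X.n_mem_N0 j) hn), z * u', mul_mem hzm hu', ?_⟩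
    · rw [(X.R j).n_eq_h]
      exact mul_mem (X.T0_le_N0 (X.h_mem_T0 j (inv_ne_zero h0))) (X.n_mem_N0 j)
    · rw [e1, hz]; group

/-- The section. -/
def E0 : Subgroup E := Subgroup.closure ({e | e ∈ X.U0} ∪ Set.range fun j => (X.R j).n 1)

theorem E0_le_cells {e : E} (he : e ∈ X.E0) : e ∈ X.cells := by
  induction he using Subgroup.closure_induction_left with
  | one => exact ⟨1, one_mem _, 1, one_mem _, 1, one_mem _, by simp⟩
  | mul_left g hg e _ ih =>
    rcases hg with hg | ⟨j, rfl⟩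
    · exact X.cells_U0 hg ih
    · exact X.cells_n j ih
  | inv_mul_cancel g hg e _ ih =>
    rcases hg with hg | ⟨j, rfl⟩
    · exact X.cells_U0 (inv_mem hg) ih
    · have h1 : (-1 : par A j) ≠ 0 := neg_ne_zero.mpr one_ne_zero
      have := X.cells_T0 (inv_mem (X.h_mem_T0 j h1)) (X.cells_n j ih)
      rwa [← X.n_sq, show ∀ n : E, (n * n)⁻¹ * (n * e) = n⁻¹ * e from fun n => by group] at this

theorem E0_ker {z : E} (hz : π z = 1) (h0 : z ∈ X.E0) : z ∈ X.T0 := by
  obtain ⟨u, hu, n, hn, u', hu', rfl⟩ := X.E0_le_cells h0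
  have hT := A.S.valid
  have hU : π n ∈ T.datum.posUnipotent F := by
    rw [posUnipotent_rootGen hT]
    have : π n = (π u)⁻¹ * (π u')⁻¹ := by
      rw [map_mul, map_mul] at hz
      rw [← mul_inv_eq_one] at *
      simp only [mul_inv_rev, inv_inv] at *
      calc π n * (π u' * π u) = (π u)⁻¹ * (π u * π n * π u' ) * π u := by group
        _ = 1 := by simp only [inv_one, mul_one] at hz; rw [hz]; group
    rw [this]
    exact mul_mem (inv_mem (X.mem_U0.mp hu).1.2) (inv_mem (X.mem_U0.mp hu').1.2)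
  obtain ⟨w, -, hon⟩ := X.N0_over hn
  have hn1 : π n = 1 := by
    have hdiag := (borel_inf_monomial (T := T) (F := F) hT).le
      (Subgroup.mem_inf.mpr ⟨Subgroup.mem_sup_left hU, hon.1⟩)
    rw [← Subgroup.mem_bot, ← pos_inf_diag (T := T) (F := F) hT]
    exact ⟨hU, hdiag⟩
  have hnT := X.N0_ker hn hn1
  have e : u * n * u' = n * (u * u') := by
    rw [← mul_assoc, X.ext.comm hn1 u]
  have huu : u * u' = 1 := by
    refine X.ext.eq_one ?_ (X.mem_U0.mp (mul_mem hu hu')).2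
    rwa [e, map_mul, hn1, one_mul] at hz
  rw [e, huu, mul_one]; exact hnT

/-- A central extension with trivial torus part: the kernel meets the commutators trivially. -/
theorem ker_inf_commutator (hG : A.G = A.S.fix) (hT0 : ∀ t ∈ X.T0, π t = 1 → t = 1) :
    π.ker ⊓ commutator E = ⊥ := by
  have hsup : X.E0 ⊔ π.ker = ⊤ := by
    rw [eq_top_iff]
    have hle : A.G ≤ X.E0.map π := by
      refine (Subgroup.closure_le _).mpr ?_
      rintro g ⟨w, hw, hg⟩
      obtain ⟨j, hj, t, ht, hwj⟩ := A.hW w hw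
      have hlt : ∀ q ∈ w, q.1 < T.n := by
        rcases hwj with rfl | rfl
        · exact A.D.cycWord_lt (A.facts hj).1 t
        · exact A.D.cycWord_lt (A.facts hj).2.1 t
      rw [show g = T.gprod w from Units.ext (hg.trans (gprod_wordMat A.S.valid hlt))]
      set t' : par A (⟨j, hj⟩ : Fin A.o) := ⟨t, (mem_par A).mpr ht⟩
      have hxm : ∀ s, X.xl ⟨j, hj⟩ s ∈ X.E0 := fun s => Subgroup.subset_closure (Or.inl (X.xl_mem_U0 _ s))
      rcases hwj with rfl | rfl
      · exact ⟨_, hxm t', X.xl_img _ t'⟩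
      · refine ⟨(X.R ⟨j, hj⟩).n 1 * X.xl ⟨j, hj⟩ (-t') * ((X.R ⟨j, hj⟩).n 1)⁻¹,
          mul_mem (mul_mem (Subgroup.subset_closure (Or.inr ⟨_, rfl⟩)) (hxm _))
            (inv_mem (Subgroup.subset_closure (Or.inr ⟨_, rfl⟩))), ?_⟩
        have e := (X.R ⟨j, hj⟩).n_x' one_ne_zero (-t')
        rw [one_pow, div_one, neg_neg] at e
        show π ((X.R ⟨j, hj⟩).n 1 * (X.R ⟨j, hj⟩).x (-t') * ((X.R ⟨j, hj⟩).n 1)⁻¹) = _
        rw [e]
        exact X.yl_img _ t'
    intro e _
    obtain ⟨e0, he0, h⟩ := hle (show π e ∈ A.G by rw [hG, ← X.range_eq]; exact ⟨e, rfl⟩)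
    rw [show e = e0 * (e0⁻¹ * e) by group]
    exact mul_mem (Subgroup.mem_sup_left he0)
      (Subgroup.mem_sup_right (by rw [MonoidHom.mem_ker, map_mul, map_inv, h, inv_mul_cancel]))
  have hcomm : commutator E ≤ X.E0 := by
    have hform : ∀ a : E, ∃ a' ∈ X.E0, ∃ z ∈ π.ker, a = a' * z := fun a => by
      haveI : π.ker.Normal := π.normal_ker
      have ha : a ∈ ((X.E0 ⊔ π.ker : Subgroup E) : Set E) := by rw [hsup]; trivial
      rw [Subgroup.mul_normal] at ha
      obtain ⟨a', ha', z, hz, e⟩ := ha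
      exact ⟨a', ha', z, hz, e.symm⟩
    rw [_root_.commutator_def, Subgroup.commutator_le]
    intro a _ b _
    obtain ⟨a', ha', z, hz, rfl⟩ := hform a
    obtain ⟨b', hb', y, hy, rfl⟩ := hform b
    have hzc := X.ext.comm (MonoidHom.mem_ker.mp hz)
    have hyc := X.ext.comm (MonoidHom.mem_ker.mp hy)
    have : ⁅a' * z, b' * y⁆ = ⁅a', b'⁆ := by
      simp only [commutatorElement_def, mul_inv_rev]
      calc a' * z * (b' * y) * (z⁻¹ * a'⁻¹) * (y⁻¹ * b'⁻¹)
          = a' * (z * (b' * y) * z⁻¹) * a'⁻¹ * (y⁻¹ * b'⁻¹) := by group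
        _ = a' * b' * (y * a'⁻¹ * y⁻¹) * b'⁻¹ := by rw [← (hzc (b' * y)).eq]; group
        _ = _ := by rw [← (hyc a'⁻¹).eq]; group
    rw [this, commutatorElement_def]
    exact mul_mem (mul_mem (mul_mem ha' hb') (inv_mem ha')) (inv_mem hb')
  rw [eq_bot_iff]
  rintro z ⟨hz, hc⟩
  exact hT0 z (X.E0_ker hz (hcomm hc)) hz

/-- Ordered products of lifted torus elements exhaust the lifted torus. -/
theorem T0_inj (hinj : ∀ c : (∀ j : Fin A.o, ↥(par A j)), (∀ j, c j ≠ 0) →
      ((List.finRange A.o).map fun j : Fin A.o => cycH A.D (A.L j) (c j : F)).prod = 1 → ∀ j, c j = 1) :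
    ∀ t ∈ X.T0, π t = 1 → t = 1 := by
  classical
  have hsingle : ∀ (j : Fin A.o) (a : par A j), a ≠ 0 → cycH A.D (A.L j) (a : F) = 1 → a = 1 := by
    intro j a ha h
    have := hinj (Function.update (fun _ => 1) j a) (fun i => ?_) ?_ j
    · simpa using this
    · rcases eq_or_ne i j with rfl | hne <;> simp [*]
    · refine List.prod_eq_one fun x hx => ?_
      obtain ⟨i, -, rfl⟩ := List.mem_map.mp hx
      rcases eq_or_ne i j with rfl | hne
      · simpa using h
      · rw [Function.update_of_ne hne, ← X.h_img i 1, (X.R i).h_one, map_one]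
  have hcomm : ∀ (i j : Fin A.o) (a : par A i) (b : par A j), a ≠ 0 → b ≠ 0 →
      Commute ((X.R i).h a) ((X.R j).h b) := by
    intro i j a b ha hb
    have ho := X.h_over i ha
    have hm := (ho.mul (X.h_over j hb)).mul ho.inv
    rw [mul_one, inv_one, mul_one] at hm
    obtain ⟨t, ht, ⟨-, e⟩ | ⟨hw, -⟩⟩ := X.rank_form j (X.conj_one j ho (X.h_mem j b)) hm.1 hm.2
    · have himg : π ((X.R j).h t) = π ((X.R j).h b) := by
        rw [← e, map_mul, map_mul, map_inv, diag_comm A.S.valid (X.h_img_mem i ha) (X.h_img_mem j hb),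
          mul_inv_cancel_right]
      have h1 : t * b⁻¹ = 1 := hsingle j _ (mul_ne_zero ht (inv_ne_zero hb)) (by
        rw [← X.h_img j, ← (X.R j).h_mul' ht (inv_ne_zero hb), ← (X.R j).h_inv' hb, map_mul, map_inv, himg,
          mul_inv_cancel])
      rw [mul_inv_eq_one₀ hb] at h1
      rw [h1] at e
      exact mul_inv_eq_iff_eq_mul.mp e
    · exfalso
      have := A.S.invN_wJ_pos A.O j
      rw [← hw, invN_one A.S.valid] at this
      exact lt_irrefl 0 this
  have hform : ∀ t ∈ X.T0, ∃ c : ∀ j : Fin A.o, par A j, (∀ j, c j ≠ 0) ∧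
      t = ((List.finRange A.o).map fun j => (X.R j).h (c j)).prod := by
    have hmul : ∀ c d : ∀ j : Fin A.o, par A j, (∀ j, c j ≠ 0) → (∀ j, d j ≠ 0) →
        ((List.finRange A.o).map fun j => (X.R j).h (c j)).prod *
          ((List.finRange A.o).map fun j => (X.R j).h (d j)).prod =
        ((List.finRange A.o).map fun j => (X.R j).h (c j * d j)).prod := fun c d hc hd => by
      rw [Tbl.list_prod_mul_of_commute _ (List.nodup_finRange _) _ _
        fun i _ k _ _ => hcomm i k _ _ (hd i) (hc k)]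
      exact congrArg List.prod (List.map_congr_left fun j _ => (X.R j).h_mul' (hc j) (hd j))
    have hone : (1 : E) = ((List.finRange A.o).map fun j => (X.R j).h (1 : par A j)).prod :=
      (List.prod_eq_one fun x hx => by
        obtain ⟨i, -, rfl⟩ := List.mem_map.mp hx
        exact (X.R i).h_one).symm
    intro t ht
    induction ht using Subgroup.closure_induction with
    | mem x hx =>
      obtain ⟨j, a, ha, rfl⟩ := hx
      refine ⟨Function.update (fun _ => 1) j a, fun i => ?_, ?_⟩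
      · rcases eq_or_ne i j with rfl | hne <;> simp [*]
      · symm
        rw [List.prod_map_eq_pow_single j _ (fun i hne _ => by
          rw [Function.update_of_ne hne]; exact (X.R i).h_one)]
        simp [List.count_eq_one_of_mem (List.nodup_finRange _) (List.mem_finRange j)]
    | one => exact ⟨fun _ => 1, fun _ => one_ne_zero, hone⟩
    | mul x y _ _ hx hy =>
      obtain ⟨c, hc, rfl⟩ := hx
      obtain ⟨d, hd, rfl⟩ := hy
      exact ⟨fun j => c j * d j, fun j => mul_ne_zero (hc j) (hd j), hmul c d hc hd⟩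
    | inv x _ hx =>
      obtain ⟨c, hc, rfl⟩ := hx
      refine ⟨fun j => (c j)⁻¹, fun j => inv_ne_zero (hc j), inv_eq_of_mul_eq_one_right ?_⟩
      rw [hmul c _ hc fun j => inv_ne_zero (hc j), hone]
      exact congrArg List.prod (List.map_congr_left fun j _ => by rw [mul_inv_cancel₀ (hc j)])
  intro t ht h
  obtain ⟨c, hc, rfl⟩ := hform t ht
  have hall := hinj c hc (by
    rw [← h, map_list_prod, List.map_map]
    exact congrArg List.prod (List.map_congr_left fun j _ => (X.h_img j (c j)).symm))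
  exact List.prod_eq_one fun x hx => by
    obtain ⟨j, -, rfl⟩ := List.mem_map.mp hx
    rw [hall j]; exact (X.R j).h_one

end TwExt

end CfsgLib.KnownA.TwistMultiplier
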