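import Cfsg.Agent.Lib.KnownA.TwistMultiplier.Main

/-!
# The kernel inside the commutators is bounded by the kernel of the torus map
-/

set_option autoImplicit false
set_option linter.unusedSectionVars false

namespace CfsgLib.KnownA.TwistMultiplier

open CfsgLib.Chevalley CfsgLib.Chevalley.Tbl
open scoped commutatorElement

variable {T : Tbl} {F : Type*} [Field F] [Finite F] {A : AbSetup T F} {E : Type*} [Group E] [Finite E]
  {π : E →* GL T.I F} {p : ℕ} [Fact p.Prime] [CharP F p]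

namespace TwExt

variable (X : TwExt A π p)
include X

/-- The commutators lie in the section. -/
theorem commutator_le_E0 (hG : A.G = A.S.fix) : commutator E ≤ X.E0 := by
  have hle : A.G ≤ X.E0.map π := by
    refine (Subgroup.closure_le _).mpr ?_
    rintro g ⟨w, hw, hg⟩
    obtain ⟨j, hj, t, ht, hwj⟩ := A.hW w hw
    have hlt : ∀ q ∈ w, q.1 < T.n := by
      rcases hwj with rfl | rfl
      · exact A.D.cycWord_lt (A.facts hj).1 t
      · exact A.D.cycWord_lt (A.facts hj).2.1 t
    rw [show g = T.gprod w from Units.ext (hg.trans (gprod_wordMat A.S.valid hlt))]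
    set t' : par A (⟨j, hj⟩ : Fin A.o) := ⟨t, (mem_par A).mpr ht⟩
    have hxm : ∀ s, X.xl ⟨j, hj⟩ s ∈ X.E0 := fun s => Subgroup.subset_closure (Or.inl (X.xl_mem_U0 _ s))
    rcases hwj with rfl | rfl
    · exact ⟨_, hxm t', X.xl_img _ t'⟩
    · refine ⟨(X.R ⟨j, hj⟩).n 1 * X.xl ⟨j, hj⟩ (-t') * ((X.R ⟨j, hj⟩).n 1)⁻¹,
        mul_mem (mul_mem (Subgroup.subset_closure (Or.inr ⟨_, rfl⟩)) (hxm _))
          (inv_mem (Subgroup.subset_closure (Or.inr ⟨_, rfl⟩))), ?_⟩
      have e := (X.R ⟨j, hj⟩).n_x' one_ne_zero (-t')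
      rw [one_pow, div_one, neg_neg] at e
      show π ((X.R ⟨j, hj⟩).n 1 * (X.R ⟨j, hj⟩).x (-t') * ((X.R ⟨j, hj⟩).n 1)⁻¹) = _
      rw [e]
      exact X.yl_img _ t'
  rw [_root_.commutator_def, Subgroup.commutator_le]
  intro a _ b _
  obtain ⟨a', ha', ea⟩ := hle (show π a ∈ A.G by rw [hG, ← X.range_eq]; exact ⟨a, rfl⟩)
  obtain ⟨b', hb', eb⟩ := hle (show π b ∈ A.G by rw [hG, ← X.range_eq]; exact ⟨b, rfl⟩)
  have key : ∀ {x x' : E}, π x = π x' → ∃ z, (∀ g, Commute g z) ∧ x = x' * z := fun {x x'} h =>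
    ⟨x'⁻¹ * x, fun g => X.ext.comm (by rw [map_mul, map_inv, h, inv_mul_cancel]) g, by group⟩
  obtain ⟨z, hz, rfl⟩ := key ea.symm
  obtain ⟨y, hy, rfl⟩ := key eb.symm
  have : ⁅a' * z, b' * y⁆ = ⁅a', b'⁆ := by
    simp only [commutatorElement_def, mul_inv_rev]
    calc a' * z * (b' * y) * (z⁻¹ * a'⁻¹) * (y⁻¹ * b'⁻¹)
        = a' * (z * (b' * y) * z⁻¹) * a'⁻¹ * (y⁻¹ * b'⁻¹) := by group
      _ = a' * b' * (y * a'⁻¹ * y⁻¹) * b'⁻¹ := by rw [← (hz (b' * y)).eq]; group
      _ = _ := by rw [← (hy a'⁻¹).eq]; group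
  rw [this, commutatorElement_def]
  exact mul_mem (mul_mem (mul_mem ha' hb') (inv_mem ha')) (inv_mem hb')

/-- Ordered products of lifted torus elements exhaust the lifted torus. -/
theorem T0_form (hsingle : ∀ (j : Fin A.o) (a : par A j), a ≠ 0 → cycH A.D (A.L j) (a : F) = 1 → a = 1) :
    ∀ t ∈ X.T0, ∃ c : ∀ j : Fin A.o, par A j, (∀ j, c j ≠ 0) ∧
      t = ((List.finRange A.o).map fun j => (X.R j).h (c j)).prod := by
  classical
  have hcomm : ∀ (i j : Fin A.o) (a : par A i) (b : par A j), a ≠ 0 → b ≠ 0 →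
      Commute ((X.R i).h a) ((X.R j).h b) := by
    intro i j a b ha hb
    have ho := X.h_over i ha
    have hm := (ho.mul (X.h_over j hb)).mul ho.inv
    rw [mul_one, inv_one, mul_one] at hm
    obtain ⟨t, ht, ⟨-, e⟩ | ⟨hw, -⟩⟩ := X.rank_form j (X.conj_one j ho (X.h_mem j b)) hm.1 hm.2
    · have himg : π ((X.R j).h t) = π ((X.R j).h b) := by
        rw [← e, map_mul, map_mul, map_inv, diag_comm A.S.valid (X.h_img_mem i ha) (X.h_img_mem j hb),
          mul_inv_cancel_right]
      have h1 : t * b⁻¹ = 1 := hsingle j _ (mul_ne_zero ht (inv_ne_zero hb)) (by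
        rw [← X.h_img j, ← (X.R j).h_mul' ht (inv_ne_zero hb), ← (X.R j).h_inv' hb, map_mul, map_inv, himg,
          mul_inv_cancel])
      rw [mul_inv_eq_one₀ hb] at h1
      rw [h1] at e
      exact mul_inv_eq_iff_eq_mul.mp e
    · exfalso
      have := A.S.invN_wJ_pos A.O j
      rw [← hw, invN_one A.S.valid] at this
      exact lt_irrefl 0 this
  have hmul : ∀ c d : ∀ j : Fin A.o, par A j, (∀ j, c j ≠ 0) → (∀ j, d j ≠ 0) →
      ((List.finRange A.o).map fun j => (X.R j).h (c j)).prod *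
        ((List.finRange A.o).map fun j => (X.R j).h (d j)).prod =
      ((List.finRange A.o).map fun j => (X.R j).h (c j * d j)).prod := fun c d hc hd => by
    rw [Tbl.list_prod_mul_of_commute _ (List.nodup_finRange _) _ _
      fun i _ k _ _ => hcomm i k _ _ (hd i) (hc k)]
    exact congrArg List.prod (List.map_congr_left fun j _ => (X.R j).h_mul' (hc j) (hd j))
  have hone : (1 : E) = ((List.finRange A.o).map fun j => (X.R j).h (1 : par A j)).prod :=
    (List.prod_eq_one fun x hx => by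
      obtain ⟨i, -, rfl⟩ := List.mem_map.mp hx
      exact (X.R i).h_one).symm
  intro t ht
  induction ht using Subgroup.closure_induction with
  | mem x hx =>
    obtain ⟨j, a, ha, rfl⟩ := hx
    refine ⟨Function.update (fun _ => 1) j a, fun i => ?_, ?_⟩
    · rcases eq_or_ne i j with rfl | hne <;> simp [*]
    · symm
      rw [List.prod_map_eq_pow_single j _ (fun i hne _ => by
        rw [Function.update_of_ne hne]; exact (X.R i).h_one)]
      simp [List.count_eq_one_of_mem (List.nodup_finRange _) (List.mem_finRange j)]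
  | one => exact ⟨fun _ => 1, fun _ => one_ne_zero, hone⟩
  | mul x y _ _ hx hy =>
    obtain ⟨c, hc, rfl⟩ := hx
    obtain ⟨d, hd, rfl⟩ := hy
    exact ⟨fun j => c j * d j, fun j => mul_ne_zero (hc j) (hd j), hmul c d hc hd⟩
  | inv x _ hx =>
    obtain ⟨c, hc, rfl⟩ := hx
    refine ⟨fun j => (c j)⁻¹, fun j => inv_ne_zero (hc j), inv_eq_of_mul_eq_one_right ?_⟩
    rw [hmul c _ hc fun j => inv_ne_zero (hc j), hone]
    exact congrArg List.prod (List.map_congr_left fun j _ => by rw [mul_inv_cancel₀ (hc j)])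

/-- The kernel inside the commutators is no larger than the kernel of the torus map. -/
theorem card_le (hG : A.G = A.S.fix)
    (hsingle : ∀ (j : Fin A.o) (a : par A j), a ≠ 0 → cycH A.D (A.L j) (a : F) = 1 → a = 1)
    (hd : π.ker ≤ commutator E) :
    Nat.card π.ker ≤ Nat.card {c : ∀ j : Fin A.o, par A j // (∀ j, c j ≠ 0) ∧
      ((List.finRange A.o).map fun j : Fin A.o => cycH A.D (A.L j) (c j : F)).prod = 1} := by
  haveI : Finite ({c : ∀ j : Fin A.o, par A j // (∀ j, c j ≠ 0) ∧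
      ((List.finRange A.o).map fun j : Fin A.o => cycH A.D (A.L j) (c j : F)).prod = 1}) := inferInstance
  have himg : ∀ c : ∀ j : Fin A.o, par A j,
      π ((List.finRange A.o).map fun j => (X.R j).h (c j)).prod =
        ((List.finRange A.o).map fun j : Fin A.o => cycH A.D (A.L j) (c j : F)).prod := fun c => by
    rw [map_list_prod, List.map_map]
    exact congrArg List.prod (List.map_congr_left fun j _ => X.h_img j (c j))
  refine Nat.card_le_card_of_surjective (fun c => (⟨((List.finRange A.o).map fun j =>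
    (X.R j).h (c.1 j)).prod, by rw [MonoidHom.mem_ker, himg]; exact c.2.2⟩ : π.ker)) ?_
  rintro ⟨z, hz⟩
  obtain ⟨c, hc, e⟩ := X.T0_form hsingle z (X.E0_ker hz (X.commutator_le_E0 hG (hd hz)))
  exact ⟨⟨c, hc, by rw [← himg, ← e]; exact hz⟩, Subtype.ext e.symm⟩

end TwExt

end CfsgLib.KnownA.TwistMultiplier
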