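import Mathlib.GroupTheory.PGroup
import Mathlib.GroupTheory.SchurZassenhaus

/-!
# Lifts of `p`-elements along a central extension with kernel of order prime to `p`
-/

set_option autoImplicit false

namespace CfsgLib.KnownA.TwistMultiplier

variable {E M : Type*} [Group E] [Group M] (π : E →* M)

/-- The conditions on a central extension. -/
structure PExt (p : ℕ) : Prop where
  ker_le : π.ker ≤ Subgroup.center E
  cop : p.Coprime (Nat.card π.ker)

/-- Being of `p`-power order. -/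
def IsP (p : ℕ) (e : E) : Prop := ∃ k : ℕ, e ^ p ^ k = 1

theorem IsP.inv {p : ℕ} {e : E} (h : IsP p e) : IsP p e⁻¹ := by
  obtain ⟨k, hk⟩ := h
  exact ⟨k, by rw [inv_pow, hk, inv_one]⟩

theorem IsP.conj {p : ℕ} {e : E} (h : IsP p e) (g : E) : IsP p (g * e * g⁻¹) := by
  obtain ⟨k, hk⟩ := h
  exact ⟨k, by rw [conj_pow, hk, mul_one, mul_inv_cancel]⟩

variable {π} {p : ℕ} [Fact p.Prime] (X : PExt π p)
include X

theorem PExt.comm {z : E} (hz : π z = 1) (e : E) : Commute e z :=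
  Subgroup.mem_center_iff.1 (X.ker_le (MonoidHom.mem_ker.2 hz)) e

theorem PExt.eq_one {z : E} (hz : π z = 1) (h : IsP p z) : z = 1 := by
  obtain ⟨k, hk⟩ := h
  have h1 : orderOf (⟨z, hz⟩ : π.ker) ∣ p ^ k :=
    orderOf_dvd_of_pow_eq_one (Subtype.ext (by simpa using hk))
  have h2 : orderOf (⟨z, hz⟩ : π.ker) ∣ Nat.card π.ker := orderOf_dvd_natCard _
  have h3 := Nat.eq_one_of_dvd_coprimes (Nat.Coprime.pow_left k X.cop) h1 h2
  exact congrArg Subtype.val (orderOf_eq_one_iff.1 h3)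

/-- Uniqueness of the lifts. -/
theorem PExt.eq_of {a b : E} (h : π a = π b) (ha : IsP p a) (hb : IsP p b) : a = b := by
  have hz : π (a⁻¹ * b) = 1 := by rw [map_mul, map_inv, h, inv_mul_cancel]
  obtain ⟨k, hk⟩ := ha
  obtain ⟨l, hl⟩ := hb
  have hc : Commute a (a⁻¹ * b) := X.comm hz a
  refine inv_mul_eq_one.1 (X.eq_one hz ⟨k + l, ?_⟩)
  have e := hc.mul_pow (p ^ (k + l))
  rw [mul_inv_cancel_left, pow_add, pow_mul a, hk, one_pow, one_mul, mul_comm (p ^ k), pow_mul b, hl,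
    one_pow] at e
  rw [pow_add, mul_comm]
  exact e.symm

/-- Existence of the lifts over a `p`-subgroup, as a subgroup. -/
theorem PExt.exists_subgroup [Finite E] {P : Subgroup M} (hP : IsPGroup p P) (hle : P ≤ π.range) :
    ∃ K : Subgroup E, K.map π = P ∧ ∀ e, e ∈ K ↔ π e ∈ P ∧ IsP p e := by
  let Q : Subgroup E := P.comap π
  let N : Subgroup Q := π.ker.subgroupOf Q
  have hkQ : π.ker ≤ Q := fun z hz => by
    show π z ∈ P
    rw [MonoidHom.mem_ker.1 hz]; exact one_mem _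
  have hN : Nat.card N = Nat.card π.ker := Nat.card_congr (Subgroup.subgroupOfEquivOfLe hkQ).toEquiv
  let f : Q →* P := (π.comp Q.subtype).codRestrict P fun q => q.2
  have hf : Function.Surjective f := fun y => by
    obtain ⟨e, he⟩ := hle y.2
    exact ⟨⟨e, by show π e ∈ P; rw [he]; exact y.2⟩, Subtype.ext he⟩
  have hfk : f.ker = N := by
    ext q
    rw [MonoidHom.mem_ker, Subgroup.mem_subgroupOf, MonoidHom.mem_ker, Subtype.ext_iff]
    rfl
  haveI : N.Normal := hfk ▸ f.normal_ker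
  have hidx : N.index = Nat.card P := by
    rw [← hfk, Subgroup.index_ker, MonoidHom.range_eq_top.2 hf, Subgroup.card_top]
  haveI : Finite P := Finite.of_surjective _ hf
  obtain ⟨n, hn⟩ := hP.exists_card_eq
  obtain ⟨H, hH⟩ := Subgroup.exists_right_complement'_of_coprime (N := N) (by
    rw [hN, hidx, hn]; exact Nat.Coprime.pow_right n X.cop.symm)
  have hHc : Nat.card H = p ^ n := by
    have h := hH.card_mul
    rw [← N.card_mul_index, hidx, hn] at h
    exact Nat.eq_of_mul_eq_mul_left Nat.card_pos h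
  refine ⟨H.map Q.subtype, ?_, fun e => ⟨?_, fun ⟨he, hp⟩ => ?_⟩⟩
  · refine le_antisymm ?_ ?_
    · rw [Subgroup.map_map]
      rintro _ ⟨h, -, rfl⟩
      exact h.2
    · intro y hy
      obtain ⟨q, hq⟩ := hf ⟨y, hy⟩
      obtain ⟨⟨z, h⟩, hzh, -⟩ := hH.existsUnique q
      refine ⟨(h : Q), ⟨(h : Q), h.2, rfl⟩, ?_⟩
      have e := congrArg (fun q : Q => π (q : E)) hzh
      simp only [Subgroup.coe_mul, map_mul] at e
      rw [show π ((z : Q) : E) = 1 from z.2, one_mul] at e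
      exact e.trans (congrArg Subtype.val hq)
  · rintro ⟨h, hh, rfl⟩
    refine ⟨h.2, n, ?_⟩
    have h1 : (⟨h, hh⟩ : H) ^ p ^ n = 1 := by rw [← hHc]; exact pow_card_eq_one'
    exact congrArg (fun x : H => ((x : Q) : E)) h1
  · obtain ⟨⟨z, h⟩, hzh, -⟩ := hH.existsUnique ⟨e, he⟩
    refine ⟨(h : Q), h.2, ?_⟩
    have e1 := congrArg (fun q : Q => π (q : E)) hzh
    simp only [Subgroup.coe_mul, map_mul] at e1
    rw [show π ((z : Q) : E) = 1 from z.2, one_mul] at e1
    refine X.eq_of e1 ⟨n, ?_⟩ hp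
    have h1 : h ^ p ^ n = 1 := by rw [← hHc]; exact pow_card_eq_one'
    exact congrArg (fun x : H => ((x : Q) : E)) h1

/-- The chosen lift. -/
theorem PExt.exists_lift [Finite E] {g : M} (hg : g ∈ π.range) (hp : IsP p g) :
    ∃ e, π e = g ∧ IsP p e := by
  obtain ⟨k, hk⟩ := hp
  have hP : IsPGroup p (Subgroup.zpowers g) := by
    rintro ⟨x, i, rfl⟩
    refine ⟨k, Subtype.ext ?_⟩
    show (g ^ i) ^ p ^ k = 1
    rw [← zpow_natCast, ← zpow_mul, mul_comm, zpow_mul, zpow_natCast, hk, one_zpow]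
  obtain ⟨K, hK, hKi⟩ := X.exists_subgroup hP (Subgroup.zpowers_le.2 hg)
  have : g ∈ K.map π := by rw [hK]; exact Subgroup.mem_zpowers g
  obtain ⟨e, he, h⟩ := this
  exact ⟨e, h, ((hKi e).1 he).2⟩

end CfsgLib.KnownA.TwistMultiplier
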