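import Mathlib.FieldTheory.Finite.Basic
import Mathlib.GroupTheory.Commutator.Basic
import Mathlib.Tactic.FieldSimp
import Mathlib.Tactic.LinearCombination
import Mathlib.Tactic.Group

/-!
# Two lifted root groups of rank one in a central extension

Over a finite field the lifted torus elements are multiplicative, and the lifted root groups
generate the union of the two cells.
-/

set_option autoImplicit false

namespace CfsgLib.KnownA.TwistMultiplier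

variable {E M : Type*} [Group E] [Group M] (π : E →* M) (F : Type*) [Field F]

/-- Lifts of the two root groups of a rank-one group. -/
structure Rank1 where
  x : F → E
  y : F → E
  ker_le : π.ker ≤ Subgroup.center E
  x_add : ∀ a b, x a * x b = x (a + b)
  y_add : ∀ a b, y a * y b = y (a + b)
  n_x : ∀ t, t ≠ 0 → ∀ u,
    (x t * y (-t⁻¹) * x t) * x u * (x t * y (-t⁻¹) * x t)⁻¹ = y (-u / t ^ 2)
  h_img : ∀ a b : F, a ≠ 0 → b ≠ 0 →
    π ((x a * y (-a⁻¹) * x a) * (x (-1) * y (-(-1 : F)⁻¹) * x (-1))) *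
      π ((x b * y (-b⁻¹) * x b) * (x (-1) * y (-(-1 : F)⁻¹) * x (-1))) =
      π ((x (a * b) * y (-(a * b)⁻¹) * x (a * b)) * (x (-1) * y (-(-1 : F)⁻¹) * x (-1)))

namespace Rank1

variable {π} {F} (R : Rank1 π F)

/-- `n(t)`. -/
def n (t : F) : E := R.x t * R.y (-t⁻¹) * R.x t

/-- `h(t)`. -/
def h (t : F) : E := R.n t * R.n (-1)

theorem x_zero : R.x 0 = 1 := by
  have e := R.x_add 0 0
  rw [add_zero] at e
  exact mul_eq_left.mp e

theorem y_zero : R.y 0 = 1 := by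
  have e := R.y_add 0 0
  rw [add_zero] at e
  exact mul_eq_left.mp e

theorem x_inv (t : F) : (R.x t)⁻¹ = R.x (-t) :=
  inv_eq_of_mul_eq_one_right (by rw [R.x_add, add_neg_cancel, R.x_zero])

theorem y_inv (t : F) : (R.y t)⁻¹ = R.y (-t) :=
  inv_eq_of_mul_eq_one_right (by rw [R.y_add, add_neg_cancel, R.y_zero])

theorem n_neg (t : F) : R.n (-t) = (R.n t)⁻¹ := by
  rw [n, n, mul_inv_rev, mul_inv_rev, R.x_inv, R.y_inv, mul_assoc, inv_neg, neg_neg]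

theorem h_one : R.h 1 = 1 := by rw [h, R.n_neg 1, mul_inv_cancel]

theorem n_eq_h (t : F) : R.n t = R.h t * R.n 1 := by rw [h, R.n_neg 1, inv_mul_cancel_right]

theorem n_x' {t : F} (ht : t ≠ 0) (u : F) : R.n t * R.x u * (R.n t)⁻¹ = R.y (-u / t ^ 2) :=
  R.n_x t ht u

theorem n_y {t : F} (ht : t ≠ 0) (u : F) :
    R.n t * R.y u * (R.n t)⁻¹ = R.x (-(u * t ^ 2)) := by
  have h := R.n_x' (neg_ne_zero.2 ht) (-(u * t ^ 2))
  rw [R.n_neg, inv_inv, show -(-(u * t ^ 2)) / (-t) ^ 2 = u by field_simp] at h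
  rw [← h]
  group

theorem n_eq_neg {t : F} (ht : t ≠ 0) : R.n t = R.y (-t⁻¹) * R.x t * R.y (-t⁻¹) := by
  conv_lhs => rw [show R.n t = R.n t * R.n t * (R.n t)⁻¹ by group]
  conv_lhs => enter [1, 2]; rw [n]
  rw [show ∀ g a b : E, g * (a * b * a) * g⁻¹ = (g * a * g⁻¹) * (g * b * g⁻¹) * (g * a * g⁻¹) from
    fun g a b => by group, R.n_x' ht, R.n_y ht]
  rw [show -t / t ^ 2 = -t⁻¹ by field_simp, show -(-t⁻¹ * t ^ 2) = t by field_simp]

theorem n_conj_n {t u : F} (ht : t ≠ 0) (hu : u ≠ 0) :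
    R.n t * R.n u * (R.n t)⁻¹ = R.n (t ^ 2 / u) := by
  conv_lhs => enter [1, 2]; rw [n]
  rw [show ∀ g a b : E, g * (a * b * a) * g⁻¹ = (g * a * g⁻¹) * (g * b * g⁻¹) * (g * a * g⁻¹) from
    fun g a b => by group, R.n_x' ht, R.n_y ht, R.n_eq_neg (div_ne_zero (pow_ne_zero 2 ht) hu)]
  congr 2 <;> first | rfl | (congr 1; field_simp)

theorem h_mul_neg {t : F} (ht : t ≠ 0) : R.h t * R.h (-t) = R.h (t * -t) := by
  have e := R.n_conj_n ht (neg_ne_zero.2 (one_ne_zero (α := F)))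
  rw [← R.n_neg, show t ^ 2 / (-1 : F) = t * -t by field_simp] at e
  rw [h, h, h, ← e]
  group

/-- `c(t, 1 - t) = 1`. -/
theorem h_mul_one_sub {t u : F} (ht : t ≠ 0) (hu : u ≠ 0) (htu : t + u = 1) :
    R.h t * R.h u = R.h (t * u) := by
  have hYn : ∀ a : F, a ≠ 0 → R.y (-a⁻¹) = R.x (-a) * R.n a * R.x (-a) := fun a _ => by
    rw [n, show ∀ p q w : E, p * (q * w * q) * p = (p * q) * w * (q * p) from fun p q w => by group,
      R.x_add, R.x_add, neg_add_cancel, add_neg_cancel, R.x_zero, one_mul, mul_one]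
  have hone : R.x (-1) = R.n (-1) * R.x 1 * R.y (-1) := by
    rw [n, inv_neg, inv_one, neg_neg]
    rw [mul_assoc (R.x (-1) * R.y 1) (R.x (-1)), R.x_add, neg_add_cancel, R.x_zero,
      mul_one, mul_assoc, R.y_add, add_neg_cancel, R.y_zero, mul_one]
  have e1 : R.n (t * u) = R.x (-t ^ 2) * R.n t * R.x (-1) * R.n u * R.x (-u ^ 2) := by
    rw [show R.n (t * u) = R.x (t * u) * R.y (-(t * u)⁻¹) * R.x (t * u) from rfl,
      show -(t * u)⁻¹ = -t⁻¹ + -u⁻¹ by field_simp; linear_combination htu, ← R.y_add, hYn t ht,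
      hYn u hu]
    rw [show -t ^ 2 = t * u + -t by linear_combination -t * htu,
      show (-1 : F) = -t + -u by linear_combination htu,
      show -u ^ 2 = -u + t * u by linear_combination -u * htu, ← R.x_add, ← R.x_add, ← R.x_add]
    group
  have eY : R.y (-1) * R.n u = R.n u * R.x (u ^ 2) := by
    have := R.n_x' hu (u ^ 2)
    rw [show -(u ^ 2) / u ^ 2 = (-1 : F) by field_simp] at this
    rw [← this]
    group
  have eX : R.x 1 * R.n u = R.n u * R.y (-(u ^ 2)⁻¹) := by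
    have := R.n_y hu (-(u ^ 2)⁻¹)
    rw [show -(-(u ^ 2)⁻¹ * u ^ 2) = (1 : F) by field_simp] at this
    rw [← this]
    group
  set N := R.n t * R.n (-1) * R.n u with hN
  have e2 : R.n (t * u) = R.x (-t ^ 2) * N * R.y (-(u ^ 2)⁻¹) := by
    rw [e1, hone, hN]
    simp only [mul_assoc]
    rw [← mul_assoc (R.y (-1)) (R.n u), eY, mul_assoc (R.n u), R.x_add, add_neg_cancel,
      R.x_zero, mul_one, eX]
  have e3 : N * R.y (-(u ^ 2)⁻¹) * N⁻¹ = R.x (t ^ 2) := by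
    have h1 := R.n_y hu (-(u ^ 2)⁻¹)
    rw [show -(-(u ^ 2)⁻¹ * u ^ 2) = (1 : F) by field_simp] at h1
    have h2 := R.n_x' (neg_ne_zero.2 (one_ne_zero (α := F))) 1
    rw [show -(1 : F) / (-1) ^ 2 = -1 by simp] at h2
    have h3 := R.n_y ht (-1)
    rw [show -(-1 * t ^ 2) = t ^ 2 by ring] at h3
    rw [hN, ← h3, ← h2, ← h1]
    group
  have e4 : N * R.y (-(u ^ 2)⁻¹) = R.x (t ^ 2) * N := mul_inv_eq_iff_eq_mul.1 e3
  rw [mul_assoc, e4, ← mul_assoc, R.x_add, neg_add_cancel, R.x_zero, one_mul] at e2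
  rw [h, h, h, e2, hN]
  group

theorem h_conj_n {a : F} (ha : a ≠ 0) {b : F} (hb : b ≠ 0) :
    R.h a * R.n b * (R.h a)⁻¹ = R.n (a ^ 2 * b) := by
  have h1 : (-1 : F) ≠ 0 := neg_ne_zero.2 one_ne_zero
  calc R.h a * R.n b * (R.h a)⁻¹
      = R.n a * (R.n (-1) * R.n b * (R.n (-1))⁻¹) * (R.n a)⁻¹ := by rw [h]; group
    _ = R.n (a ^ 2 * b) := by
      rw [R.n_conj_n h1 hb, R.n_conj_n ha (div_ne_zero (pow_ne_zero 2 h1) hb)]
      congr 1; field_simp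

theorem h_conj_h {a : F} (ha : a ≠ 0) {b : F} (hb : b ≠ 0) :
    R.h a * R.h b * (R.h a)⁻¹ = R.h (a ^ 2 * b) * (R.h (a ^ 2))⁻¹ := by
  have h1 : (-1 : F) ≠ 0 := neg_ne_zero.2 one_ne_zero
  have e : R.h a * R.h b * (R.h a)⁻¹ =
      (R.h a * R.n b * (R.h a)⁻¹) * (R.h a * R.n (-1) * (R.h a)⁻¹) := by rw [h, h]; group
  rw [e, R.h_conj_n ha hb, R.h_conj_n ha h1, mul_neg, mul_one, R.n_neg, h, h, R.n_neg 1]
  group

set_option linter.unusedSectionVars false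

variable [Finite F]

theorem h_comm (a b : Fˣ) : Commute (R.h (a : F)) (R.h (b : F)) := by
  obtain ⟨g, hg⟩ := IsCyclic.exists_generator (α := Fˣ)
  let η : Fˣ →* M := MonoidHom.mk' (fun x => π (R.h (x : F))) fun x x' => by
    rw [Units.val_mul]
    exact (R.h_img (x : F) (x' : F) x.ne_zero x'.ne_zero).symm
  have hpow : ∀ x : Fˣ, ∃ i : ℤ, ∃ z : E, (∀ e, Commute e z) ∧
      R.h (x : F) = R.h (g : F) ^ i * z := by
    intro x
    obtain ⟨i, hi⟩ := Subgroup.mem_zpowers_iff.1 (hg x)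
    refine ⟨i, (R.h (g : F) ^ i)⁻¹ * R.h (x : F), fun e => ?_, by group⟩
    refine Subgroup.mem_center_iff.1 (R.ker_le ?_) e
    rw [MonoidHom.mem_ker, map_mul, map_inv, map_zpow]
    show (η g ^ i)⁻¹ * η x = 1
    rw [← map_zpow, hi, inv_mul_cancel]
  obtain ⟨i, z, hz, hx⟩ := hpow a
  obtain ⟨j, w, hw, hx'⟩ := hpow b
  rw [hx, hx']
  exact ((((Commute.refl _).zpow_zpow i j).mul_right (hw _)).mul_left
    ((hz _).symm : Commute z _))

theorem h_sq_mul (a b : Fˣ) : R.h (((a ^ 2 * b : Fˣ)) : F) = R.h ((a ^ 2 : Fˣ) : F) * R.h (b : F) := by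
  have h := R.h_conj_h a.ne_zero b.ne_zero
  rw [(R.h_comm a b).eq, mul_inv_cancel_right, eq_mul_inv_iff_mul_eq] at h
  rw [Units.val_mul, Units.val_pow_eq_pow_val, ← h]
  have := (R.h_comm (a ^ 2) b).eq
  rw [Units.val_pow_eq_pow_val] at this
  exact this.symm

omit π R in
theorem exists_nonsquare_pair {g : Fˣ} (hg : ∀ x : Fˣ, x ∈ Subgroup.zpowers g) (hsq : ¬ IsSquare g) :
    ∃ x y : Fˣ, ((g * x ^ 2 : Fˣ) : F) + ((g * y ^ 2 : Fˣ) : F) = 1 := by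
  classical
  have := Fintype.ofFinite F
  let sq : Finset F := (Finset.univ.image fun x : Fˣ => ((x ^ 2 : Fˣ) : F))
  let nsq : Finset F := (Finset.univ.image fun x : Fˣ => ((g * x ^ 2 : Fˣ) : F))
  have hcard : nsq.card = sq.card := by
    have : nsq = sq.image fun z => (g : F) * z := by
      simp only [nsq, sq, Finset.image_image]
      rfl
    rw [this, Finset.card_image_of_injective _ (mul_right_injective₀ g.ne_zero)]
  by_contra hno
  push Not at hno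
  have hdich : ∀ z : Fˣ, (z : F) ∈ sq ∨ (z : F) ∈ nsq := by
    intro z
    obtain ⟨i, rfl⟩ := (Submonoid.mem_powers_iff _ _).1 (mem_powers_iff_mem_zpowers.2 (hg z))
    rcases Nat.even_or_odd' i with ⟨k, rfl | rfl⟩
    · exact Or.inl (Finset.mem_image.2 ⟨g ^ k, Finset.mem_univ _, by rw [← pow_mul, mul_comm]⟩)
    · exact Or.inr (Finset.mem_image.2 ⟨g ^ k, Finset.mem_univ _,
        by rw [← pow_mul, mul_comm k 2, ← pow_succ']⟩)
  have h1sq : (1 : F) ∈ sq := Finset.mem_image.2 ⟨1, Finset.mem_univ _, by simp⟩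
  have h1nsq : (1 : F) ∉ nsq := by
    intro h1
    obtain ⟨x, -, hx⟩ := Finset.mem_image.1 h1
    refine hsq ⟨x⁻¹, ?_⟩
    rw [← pow_two, inv_pow, eq_inv_iff_mul_eq_one]
    exact Units.ext hx
  have hsub : (nsq.image fun z => 1 - z) ⊆ sq.erase 1 := by
    intro z hz
    obtain ⟨t, ht, rfl⟩ := Finset.mem_image.1 hz
    obtain ⟨x, -, hx⟩ := Finset.mem_image.1 ht
    have ht0 : t ≠ 0 := hx ▸ Units.ne_zero _
    have h1t : 1 - t ≠ 0 := fun h => h1nsq (by rwa [← sub_eq_zero.1 h] at ht)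
    refine Finset.mem_erase.2 ⟨fun h => ht0 (by linear_combination -h), ?_⟩
    rcases hdich (Units.mk0 _ h1t) with h | h
    · exact h
    · obtain ⟨y, -, hy⟩ := Finset.mem_image.1 h
      exact absurd (by rw [hx, hy]; simp) (hno x y)
  have := Finset.card_le_card hsub
  rw [Finset.card_image_of_injective _ sub_right_injective, hcard,
    Finset.card_erase_of_mem h1sq] at this
  have : 0 < sq.card := Finset.card_pos.2 ⟨1, h1sq⟩
  omega

/-- The lifted torus elements are multiplicative. -/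
theorem h_mul (a b : Fˣ) : R.h (a : F) * R.h (b : F) = R.h ((a * b : Fˣ) : F) := by
  have hc := R.h_comm
  have hS := R.h_sq_mul
  obtain ⟨g, hg⟩ := IsCyclic.exists_generator (α := Fˣ)
  have hdich : ∀ z : Fˣ, (∃ x, z = x ^ 2) ∨ ∃ x, z = g * x ^ 2 := by
    intro z
    obtain ⟨i, rfl⟩ := (Submonoid.mem_powers_iff _ _).1 (mem_powers_iff_mem_zpowers.2 (hg z))
    rcases Nat.even_or_odd' i with ⟨k, rfl | rfl⟩
    · exact Or.inl ⟨g ^ k, by rw [← pow_mul, mul_comm]⟩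
    · exact Or.inr ⟨g ^ k, by rw [← pow_mul, mul_comm k 2, ← pow_succ']⟩
  rcases hdich a with ⟨x, rfl⟩ | ⟨x, rfl⟩
  · exact (hS x b).symm
  rcases hdich b with ⟨y, rfl⟩ | ⟨y, rfl⟩
  · rw [(hc _ _).eq, ← hS, mul_comm (y ^ 2)]
  by_cases hsq : IsSquare g
  · obtain ⟨w, hw⟩ := hsq
    rw [show g * x ^ 2 = (w * x) ^ 2 by rw [hw, mul_pow, pow_two w]]
    exact (hS _ _).symm
  have key : ∀ p q : Fˣ, R.h ((g * p ^ 2 : Fˣ) : F) * R.h ((g * q ^ 2 : Fˣ) : F) =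
      R.h ((g * p ^ 2 * (g * q ^ 2) : Fˣ) : F) *
        ((R.h ((g * g : Fˣ) : F))⁻¹ * (R.h (g : F) * R.h (g : F))) := by
    intro p q
    rw [show g * p ^ 2 * (g * q ^ 2) = (p * q) ^ 2 * (g * g) by rw [mul_pow]; ac_rfl, mul_comm g (p ^ 2),
      mul_comm g (q ^ 2), hS, hS, hS]
    have e : R.h (((p * q) ^ 2 : Fˣ) : F) = R.h ((p ^ 2 : Fˣ) : F) * R.h ((q ^ 2 : Fˣ) : F) := by
      rw [mul_pow, hS]
    rw [e]
    have h1 := (hc g (q ^ 2)).eq
    calc R.h ((p ^ 2 : Fˣ) : F) * R.h (g : F) * (R.h ((q ^ 2 : Fˣ) : F) * R.h (g : F))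
        = R.h ((p ^ 2 : Fˣ) : F) * (R.h (g : F) * R.h ((q ^ 2 : Fˣ) : F)) * R.h (g : F) := by
          group
      _ = _ := by rw [h1]; group
  obtain ⟨p, q, hpq⟩ := exists_nonsquare_pair hg hsq
  have h0 := R.h_mul_one_sub (Units.ne_zero _) (Units.ne_zero _) hpq
  rw [key p q, ← Units.val_mul, mul_eq_left] at h0
  rw [key x y, h0, mul_one]

theorem h_mul' {a b : F} (ha : a ≠ 0) (hb : b ≠ 0) : R.h a * R.h b = R.h (a * b) := by
  simpa using R.h_mul (Units.mk0 a ha) (Units.mk0 b hb)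

theorem h_inv' {a : F} (ha : a ≠ 0) : (R.h a)⁻¹ = R.h a⁻¹ :=
  inv_eq_of_mul_eq_one_right (by rw [R.h_mul' ha (inv_ne_zero ha), mul_inv_cancel₀ ha, R.h_one])

omit [Finite F] in
theorem h_x {a : F} (ha : a ≠ 0) (u : F) : R.h a * R.x u * (R.h a)⁻¹ = R.x (a ^ 2 * u) := by
  have h1 : (-1 : F) ≠ 0 := neg_ne_zero.2 one_ne_zero
  calc R.h a * R.x u * (R.h a)⁻¹ = R.n a * (R.n (-1) * R.x u * (R.n (-1))⁻¹) * (R.n a)⁻¹ := by
        rw [h]; group
    _ = R.x (a ^ 2 * u) := by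
        rw [R.n_x' h1, R.n_y ha]
        congr 1; field_simp

/-- The two cells. -/
def Cell (e : E) : Prop :=
  (∃ a t, t ≠ 0 ∧ e = R.x a * R.h t) ∨ ∃ a t b, t ≠ 0 ∧ e = R.x a * R.h t * R.n 1 * R.x b

theorem cell_x (c : F) {e : E} (he : R.Cell e) : R.Cell (R.x c * e) := by
  rcases he with ⟨a, t, ht, rfl⟩ | ⟨a, t, b, ht, rfl⟩
  · exact Or.inl ⟨c + a, t, ht, by rw [← mul_assoc, R.x_add]⟩
  · exact Or.inr ⟨c + a, t, b, ht, by simp only [← mul_assoc, R.x_add]⟩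

theorem cell_n {e : E} (he : R.Cell e) : R.Cell (R.n 1 * e) := by
  have h1 : (1 : F) ≠ 0 := one_ne_zero
  have hnh : ∀ t : F, t ≠ 0 → R.n 1 * R.h t = R.h t⁻¹ * R.n 1 := fun t ht => by
    have e := R.h_conj_n (inv_ne_zero ht) h1
    have e2 := R.n_conj_n (u := (1 : F)) (inv_ne_zero ht) h1
    have e3 : R.h t⁻¹ * R.n 1 = R.n t⁻¹ := (R.n_eq_h _).symm
    have e4 : R.n 1 * R.h t = R.n 1 * R.n t * (R.n 1)⁻¹ := by rw [h, R.n_neg 1]; group
    rw [e4, R.n_conj_n h1 ht, e3, one_pow, one_div]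
  have hna : ∀ a : F, a ≠ 0 →
      R.n 1 * R.x a * (R.n 1)⁻¹ = R.x (-a⁻¹) * R.h a⁻¹ * R.n 1 * R.x (-a⁻¹) := fun a ha => by
    rw [R.n_x' h1, one_pow, div_one, mul_assoc (R.x (-a⁻¹)) (R.h a⁻¹), ← R.n_eq_h, n, inv_inv]
    simp only [← mul_assoc, R.x_add, neg_add_cancel, R.x_zero, one_mul]
    rw [mul_assoc (R.y (-a)) (R.x a⁻¹) (R.x (-a⁻¹)), R.x_add, add_neg_cancel, R.x_zero, mul_one]
  have hsq : R.n 1 * R.n 1 = R.h (-1) := by
    rw [h, R.n_neg 1]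
    have e : R.h (-1) * R.h (-1) = 1 := by
      rw [R.h_mul' (neg_ne_zero.2 h1) (neg_ne_zero.2 h1), neg_mul_neg, mul_one, R.h_one]
    rw [h, R.n_neg 1] at e
    rw [← inv_eq_of_mul_eq_one_right e, mul_inv_rev, inv_inv]
  have hxh : ∀ t : F, t ≠ 0 → ∀ a, R.h t * R.x a = R.x (t ^ 2 * a) * R.h t := fun t ht a =>
    mul_inv_eq_iff_eq_mul.1 (R.h_x ht a)
  have hm1 : (-1 : F) ≠ 0 := neg_ne_zero.2 h1
  have hhx : ∀ t : F, t ≠ 0 → ∀ a, R.x a * R.h t = R.h t * R.x ((t⁻¹) ^ 2 * a) := fun t ht a => by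
    rw [hxh t ht]; congr 2; field_simp
  rcases he with ⟨a, t, ht, rfl⟩ | ⟨a, t, b, ht, rfl⟩
  · refine Or.inr ⟨0, t⁻¹, t⁻¹ ^ 2 * a, inv_ne_zero ht, ?_⟩
    rw [R.x_zero, one_mul, hhx t ht, ← mul_assoc, hnh t ht]
  · rcases eq_or_ne a 0 with rfl | ha
    · refine Or.inl ⟨(-t⁻¹) ^ 2 * b, -t⁻¹, neg_ne_zero.2 (inv_ne_zero ht), ?_⟩
      rw [R.x_zero, one_mul, ← mul_assoc, ← mul_assoc, hnh t ht, mul_assoc (R.h t⁻¹) (R.n 1), hsq,
        R.h_mul' (inv_ne_zero ht) hm1, mul_neg, mul_one, hxh _ (neg_ne_zero.2 (inv_ne_zero ht))]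
    · refine Or.inr ⟨-a⁻¹, a⁻¹ * -t, t ^ 2 * -a⁻¹ + b, mul_ne_zero (inv_ne_zero ha) (neg_ne_zero.2 ht), ?_⟩
      have hti : (-t⁻¹ : F) ≠ 0 := neg_ne_zero.2 (inv_ne_zero ht)
      calc R.n 1 * (R.x a * R.h t * R.n 1 * R.x b)
          = (R.n 1 * R.x a * (R.n 1)⁻¹) * (R.n 1 * R.h t) * R.n 1 * R.x b := by group
        _ = R.x (-a⁻¹) * R.h a⁻¹ * R.n 1 * R.x (-a⁻¹) * (R.h t⁻¹ * (R.n 1 * R.n 1)) * R.x b := by
          rw [hna a ha, hnh t ht]; group
        _ = R.x (-a⁻¹) * R.h a⁻¹ * R.n 1 * (R.x (-a⁻¹) * R.h (-t⁻¹)) * R.x b := by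
          rw [hsq, R.h_mul' (inv_ne_zero ht) hm1, mul_neg, mul_one]; group
        _ = R.x (-a⁻¹) * R.h a⁻¹ * (R.n 1 * R.h (-t⁻¹)) * (R.x ((-t⁻¹)⁻¹ ^ 2 * -a⁻¹) * R.x b) := by
          rw [hhx _ hti]; group
        _ = R.x (-a⁻¹) * R.h (a⁻¹ * -t) * R.n 1 * R.x (t ^ 2 * -a⁻¹ + b) := by
          rw [hnh _ hti, R.x_add, ← R.h_mul' (inv_ne_zero ha) (neg_ne_zero.2 ht),
            show (-t⁻¹)⁻¹ = -t by rw [inv_neg, inv_inv], neg_pow_two]
          group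

/-- Products of the lifted root elements lie in the cells. -/
theorem cell_of_mem {e : E} (he : e ∈ Subgroup.closure (Set.range R.x ∪ Set.range R.y)) : R.Cell e := by
  have h1 : (1 : F) ≠ 0 := one_ne_zero
  have hy : ∀ c : F, ∀ {e : E}, R.Cell e → R.Cell (R.y c * e) := by
    intro c e he
    have hn : R.Cell ((R.n 1)⁻¹ * e) := by
      have h3 := R.cell_n (R.cell_n (R.cell_n he))
      have h4 : R.n 1 * (R.n 1 * (R.n 1 * e)) = (R.n 1)⁻¹ * e := by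
        have e2 : R.n 1 * R.n 1 * (R.n 1 * R.n 1) = 1 := by
          have e3 : R.h (-1) * R.h (-1) = 1 := by
            rw [R.h_mul' (neg_ne_zero.2 h1) (neg_ne_zero.2 h1), neg_mul_neg, mul_one, R.h_one]
          rw [h, R.n_neg 1] at e3
          apply inv_injective
          rw [inv_one, ← e3]
          group
        rw [eq_inv_mul_iff_mul_eq]
        simp only [← mul_assoc] at e2 ⊢
        rw [e2, one_mul]
      rwa [h4] at h3
    have := R.cell_n (R.cell_x (-c) hn)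
    rwa [show R.n 1 * (R.x (-c) * ((R.n 1)⁻¹ * e)) = R.y c * e by
      rw [← mul_assoc, ← mul_assoc, R.n_x' h1, one_pow, div_one, neg_neg]] at this
  induction he using Subgroup.closure_induction_left with
  | one => exact Or.inl ⟨0, 1, h1, by rw [R.x_zero, R.h_one, one_mul]⟩
  | mul_left g hg e _ ih =>
    rcases hg with ⟨c, rfl⟩ | ⟨c, rfl⟩
    · exact R.cell_x c ih
    · exact hy c ih
  | inv_mul_cancel g hg e _ ih =>
    rcases hg with ⟨c, rfl⟩ | ⟨c, rfl⟩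
    · rw [R.x_inv]; exact R.cell_x _ ih
    · rw [R.y_inv]; exact hy _ ih

end Rank1

end CfsgLib.KnownA.TwistMultiplier
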