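import Cfsg.Agent.Lib.KnownA.TwistMultiplier.Rank1
import Cfsg.Agent.Lib.KnownA.TwistMultiplier.Lifts
import Cfsg.Agent.Lib.KnownA.TwistMultiplier.Orbit

/-!
# The lifted torus and monomial group of a central extension of a twisted group

The kernel has order prime to the characteristic; the lifts of the root elements of the orbits are
those of `p`-power order.
-/

set_option autoImplicit false
set_option linter.unusedSectionVars false

namespace CfsgLib.KnownA.TwistMultiplier

open CfsgLib.Chevalley CfsgLib.Chevalley.Tbl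

/-- A central extension of the group of fixed points with kernel of order prime to `p`. -/
structure TwExt {T : Tbl} {F : Type*} [Field F] (A : AbSetup T F) {E : Type*} [Group E]
    (π : E →* GL T.I F) (p : ℕ) : Prop where
  ext : PExt π p
  range_eq : π.range = A.S.fix

variable {T : Tbl} {F : Type*} [Field F] [Finite F] {A : AbSetup T F} {E : Type*} [Group E] [Finite E]
  {π : E →* GL T.I F} {p : ℕ} [Fact p.Prime] [CharP F p]

theorem isP_of_add {G : Type*} [Group G] {f : F → G} (hf : ∀ a b, f a * f b = f (a + b)) (t : F) :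
    IsP p (f t) := by
  have h0 : f 0 = 1 := by
    have e := hf 0 0
    rw [add_zero] at e
    exact mul_eq_left.mp e
  have h : ∀ n : ℕ, f t ^ n = f ((n : F) * t) := fun n => by
    induction n with
    | zero => rw [pow_zero, Nat.cast_zero, zero_mul, h0]
    | succ n ih => rw [pow_succ, ih, hf, Nat.cast_succ, add_one_mul]
  exact ⟨1, by rw [pow_one, h, CharP.cast_eq_zero F p, zero_mul, h0]⟩

namespace TwExt

variable (X : TwExt A π p)
include X

theorem exists_lift {g : GL T.I F} (hg : g ∈ A.S.fix) (hp : IsP p g) : ∃ e, π e = g ∧ IsP p e :=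
  X.ext.exists_lift (X.range_eq ▸ hg) hp

theorem exists_xl (j : Fin A.o) (t : par A j) : ∃ e, π e = xo A j t ∧ IsP p e :=
  X.exists_lift (A.pos_fix j.2 (mem_par A |>.mp t.2)) (isP_of_add (xo_add A j.2) _)

theorem exists_yl (j : Fin A.o) (t : par A j) : ∃ e, π e = yo A j t ∧ IsP p e :=
  X.exists_lift (A.neg_fix j.2 (mem_par A |>.mp t.2)) (isP_of_add (yo_add A j.2) _)

/-- The lift of a root element. -/
noncomputable def xl (j : Fin A.o) (t : par A j) : E := (X.exists_xl j t).choose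

/-- The lift of a negative root element. -/
noncomputable def yl (j : Fin A.o) (t : par A j) : E := (X.exists_yl j t).choose

theorem xl_img (j : Fin A.o) (t : par A j) : π (X.xl j t) = xo A j t := (X.exists_xl j t).choose_spec.1

theorem yl_img (j : Fin A.o) (t : par A j) : π (X.yl j t) = yo A j t := (X.exists_yl j t).choose_spec.1

theorem xl_isP (j : Fin A.o) (t : par A j) : IsP p (X.xl j t) := (X.exists_xl j t).choose_spec.2

theorem yl_isP (j : Fin A.o) (t : par A j) : IsP p (X.yl j t) := (X.exists_yl j t).choose_spec.2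

theorem eq_of_isP {a b : E} (h : π a = π b) (ha : IsP p a) (hb : IsP p b) : a = b :=
  X.ext.eq_of h ha hb

theorem add_lift {K : Type*} [AddCommMonoid K] {g : K → GL T.I F} {l : K → E}
    (hg : ∀ a b, g a * g b = g (a + b)) (hl : ∀ a, π (l a) = g a ∧ IsP p (l a)) (a b : K) :
    l a * l b = l (a + b) := by
  have hc : Commute (l a) (l b) := by
    have : l b = l a * l b * (l a)⁻¹ := X.eq_of_isP (by
      rw [map_mul, map_mul, map_inv, (hl a).1, (hl b).1, hg, add_comm, ← hg, mul_inv_cancel_right])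
      (hl b).2 ((hl b).2.conj _)
    exact (eq_mul_inv_iff_mul_eq.mp this).symm
  refine X.eq_of_isP (by rw [map_mul, (hl a).1, (hl b).1, hg, (hl (a + b)).1]) ?_ (hl (a + b)).2
  obtain ⟨k, hk⟩ := (hl a).2
  obtain ⟨m, hm⟩ := (hl b).2
  exact ⟨k + m, by rw [hc.mul_pow, pow_add, pow_mul (l a), hk, one_pow, one_mul, mul_comm (p ^ k),
    pow_mul, hm, one_pow]⟩

/-- The rank-one data of an orbit. -/
noncomputable def R (j : Fin A.o) : Rank1 π (par A j) where
  x := X.xl j
  y := X.yl j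
  ker_le := X.ext.ker_le
  x_add := X.add_lift (g := fun t : par A j => xo A j t) (fun a b => by simp [xo_add A j.2])
    fun t => ⟨X.xl_img j t, X.xl_isP j t⟩
  y_add := X.add_lift (g := fun t : par A j => yo A j t) (fun a b => by simp [yo_add A j.2])
    fun t => ⟨X.yl_img j t, X.yl_isP j t⟩
  n_x t ht u := by
    refine X.eq_of_isP ?_ ((X.xl_isP j u).conj _) (X.yl_isP j _)
    have h := cycN_conj A.D (A.facts j.2).1 (A.facts j.2).2.1 (t := (t : F))
      (fun h => ht (Subtype.ext h)) (u : F)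
    simp only [map_mul, map_inv, X.xl_img, X.yl_img, Subfield.coe_neg, Subfield.coe_inv,
      Subfield.coe_div, SubmonoidClass.coe_pow]
    rw [mul_inv_eq_iff_eq_mul]
    exact h
  h_img a b ha hb := by
    simp only [map_mul, X.xl_img, X.yl_img, Subfield.coe_neg, Subfield.coe_inv, Subfield.coe_mul,
      Subfield.coe_one]
    exact cycH_mul A.D (A.facts j.2).1 (fun h => ha (Subtype.ext h)) (fun h => hb (Subtype.ext h))

theorem n_img (j : Fin A.o) (t : par A j) : π ((X.R j).n t) = cycN A.D (A.L j) t := by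
  show π (X.xl j t * X.yl j (-t⁻¹) * X.xl j t) = _
  simp only [map_mul, X.xl_img, X.yl_img, Subfield.coe_neg, Subfield.coe_inv]
  rfl

theorem h_img (j : Fin A.o) (t : par A j) : π ((X.R j).h t) = cycH A.D (A.L j) t := by
  rw [Rank1.h, map_mul, X.n_img, X.n_img, cycH]
  simp

theorem h_img_mem (j : Fin A.o) {t : par A j} (ht : t ≠ 0) :
    π ((X.R j).h t) ∈ T.datum.diagonalSubgroup F := by
  rw [X.h_img]; exact cycH_mem A.D (A.facts j.2).1 fun h => ht (Subtype.ext h)

/-- Lifts of monomial fixed elements. -/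
def Over (v : E) (w : Equiv.Perm (Fin T.n)) : Prop :=
  π v ∈ T.datum.monomialSubgroup F ∧ T.Mono (π v) w

theorem n_over (j : Fin A.o) {t : par A j} (ht : t ≠ 0) :
    Over (π := π) ((X.R j).n t) (A.S.wJ A.O j) := by
  refine ⟨?_, ?_⟩ <;> rw [X.n_img]
  · exact cycN_mem A.D (A.facts j.2).1 (Units.mk0 _ fun h => ht (Subtype.ext h))
  · exact mono_cycN A j (Units.mk0 _ fun h => ht (Subtype.ext h))

theorem h_over (j : Fin A.o) {t : par A j} (ht : t ≠ 0) : Over (π := π) ((X.R j).h t) 1 :=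
  ⟨diag_le_N A.S.valid (X.h_img_mem j ht), mono_diag A.S.valid (X.h_img_mem j ht)⟩

omit X in
theorem Over.mul {u v : E} {a b : Equiv.Perm (Fin T.n)} (h : Over (π := π) u a) (h' : Over (π := π) v b) :
    Over (π := π) (u * v) (a * b) := by
  refine ⟨?_, ?_⟩ <;> rw [map_mul]
  · exact mul_mem h.1 h'.1
  · exact h.2.mul h'.2

omit X in
theorem Over.inv {u : E} {a : Equiv.Perm (Fin T.n)} (h : Over (π := π) u a) : Over (π := π) u⁻¹ a⁻¹ := by
  refine ⟨?_, ?_⟩ <;> rw [map_inv]
  · exact inv_mem h.1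
  · exact h.2.inv

omit X in
theorem Over.one : Over (π := π) (1 : E) 1 := by
  refine ⟨?_, ?_⟩ <;> rw [map_one]
  · exact one_mem _
  · exact Mono.one

theorem posFix_isP {g : GL T.I F} (hg : g ∈ posFix A) : IsP p g := by
  haveI := Fintype.ofFinite F
  obtain ⟨m, -, hm⟩ := FiniteField.card F p
  have hP : IsPGroup p ↥(T.datum.posUnipotent F) :=
    IsPGroup.of_card (n := (m : ℕ) * T.half) (by
      rw [card_posUnipotent A.S.valid A.S.comm, hm, ← pow_mul,
        show T.datum.nroots / 2 = T.half from Nat.mul_div_cancel_left _ two_pos])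
  obtain ⟨k, hk⟩ := hP ⟨g, (posUnipotent_rootGen (F := F) A.S.valid).symm ▸ hg.2⟩
  exact ⟨k, congrArg Subtype.val hk⟩

/-- Elements of a lifted rank-one group over a monomial element. -/
theorem rank_form (j : Fin A.o) {e : E}
    (he : e ∈ Subgroup.closure (Set.range (X.R j).x ∪ Set.range (X.R j).y))
    (hN : π e ∈ T.datum.monomialSubgroup F) {w : Equiv.Perm (Fin T.n)} (hm : T.Mono (π e) w) :
    ∃ t ≠ 0, (w = 1 ∧ e = (X.R j).h t) ∨ (w = A.S.wJ A.O j ∧ e = (X.R j).h t * (X.R j).n 1) := by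
  have hT := A.S.valid
  have hC := A.S.comm
  have hxu : ∀ t : par A j, xo A j t ∈ T.rootGen F (fun r => T.half ≤ r) := fun t =>
    (xo_mem_posFix A j (mem_par A |>.mp t.2)).2
  have hxB : ∀ t : par A j, xo A j t ∈ T.datum.borelSubgroup F := fun t =>
    Subgroup.mem_sup_left ((posUnipotent_rootGen (F := F) hT).symm ▸ hxu t)
  have hzero : ∀ t : par A j, xo A j t = 1 → t = 0 := fun t h => Subtype.ext (xo_eq_one A j.2 h)
  rcases (X.R j).cell_of_mem he with ⟨a, t, ht, rfl⟩ | ⟨a, t, b, ht, rfl⟩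
  · rw [map_mul, show π ((X.R j).x a) = _ from X.xl_img j a] at hN hm
    set d := π ((X.R j).h t) with hd
    have hdd : d ∈ T.datum.diagonalSubgroup F := X.h_img_mem j ht
    obtain ⟨hq, huq⟩ := canonical_unique hT hC
      (mul_mem (hxB a) (Subgroup.mem_sup_right hdd)) (one_mem _) (one_mem _) hN (Mono.one (T := T))
      (one_mem _) (one_mem (T.rootGen F (T.negSet w))) (b' := 1) (u' := 1) (by simp)
    rw [inv_one, one_mul] at hq
    obtain ⟨h1, -⟩ := borel_unique hT hC (hxu a) (one_mem _) hdd hq (by rw [one_mul])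
    have ha := hzero a h1
    subst ha
    refine ⟨t, ht, Or.inl ⟨?_, by simp [(X.R j).x_zero]⟩⟩
    exact hm.unique (mono_diag hT hq)
  · rw [map_mul, map_mul, map_mul, show π ((X.R j).x a) = _ from X.xl_img j a,
      show π ((X.R j).x b) = _ from X.xl_img j b] at hN hm
    have ho := X.n_over j (one_ne_zero (α := par A j))
    have hn' := ((X.h_over j ht).mul ho)
    rw [Over, map_mul, one_mul] at hn'
    set n := π ((X.R j).h t) * π ((X.R j).n 1) with hn
    have e0 : xo A j a * n * xo A j b = 1 *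
        (xo A j a * π ((X.R j).h t) * π ((X.R j).n 1) * xo A j b) * 1 := by
      rw [hn, one_mul, mul_one]; simp only [mul_assoc]
    obtain ⟨hq, -⟩ := canonical_unique hT hC (hxB a) (one_mem _) hn'.1 hN hn'.2
      (xo_mem_negSet A j b) (one_mem (T.rootGen F (T.negSet w))) e0
    have hw : w = A.S.wJ A.O j := by
      refine hm.unique ?_
      have h := hn'.2.mul (mono_diag hT hq)
      rwa [mul_inv_cancel_left, mul_one] at h
    subst hw
    -- move the diagonal element to the left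
    set d := n⁻¹ * (xo A j a * π ((X.R j).h t) * π ((X.R j).n 1) * xo A j b)
    have hk : n * d * n⁻¹ ∈ T.datum.diagonalSubgroup F := conj_diag hT hn'.1 hq
    have e1 : xo A j a * n * xo A j b = n * d * n⁻¹ * n * 1 := by
      rw [e0, one_mul, mul_one, mul_one, inv_mul_cancel_right, mul_inv_cancel_left]
    obtain ⟨-, h2⟩ := canonical_unique hT hC (hxB a) (Subgroup.mem_sup_right hk) hn'.1 hn'.1 hn'.2
      (xo_mem_negSet A j b) (one_mem (T.rootGen F (T.negSet (A.S.wJ A.O j)))) e1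
    obtain ⟨h3, h4⟩ := h2 hn'.2 rfl
    obtain ⟨h5, -⟩ := borel_unique hT hC (hxu a) (one_mem _) (one_mem _) hk
      (by rw [mul_one, one_mul]; exact h3)
    have hb := hzero b h4
    have ha := hzero a h5
    subst ha hb
    exact ⟨t, ht, Or.inr ⟨rfl, by simp [(X.R j).x_zero]⟩⟩

/-- Elements over the torus move the lifts of an orbit to another orbit. -/
theorem conj_orbit {v : E} {w : Equiv.Perm (Fin T.n)} (hv : Over (π := π) v w) {i k : Fin A.o}
    (hwk : ∀ r : Fin T.n, T.half ≤ r.val → (A.S.wJ A.O i r).val < T.half →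
      T.half ≤ (w r).val ∧ (A.S.wJ A.O k (w r)).val < T.half) {e : E}
    (he : e ∈ Subgroup.closure (Set.range (X.R i).x ∪ Set.range (X.R i).y)) :
    v * e * v⁻¹ ∈ Subgroup.closure (Set.range (X.R k).x ∪ Set.range (X.R k).y) := by
  have hT := A.S.valid
  have hvf : π v ∈ A.S.fix := X.range_eq ▸ ⟨v, rfl⟩
  suffices Subgroup.closure (Set.range (X.R i).x ∪ Set.range (X.R i).y) ≤
      (Subgroup.closure (Set.range (X.R k).x ∪ Set.range (X.R k).y)).comap (MulAut.conj v).toMonoidHom
    from this he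
  rw [Subgroup.closure_le]
  rintro _ (⟨t, rfl⟩ | ⟨t, rfl⟩) <;> show v * _ * v⁻¹ ∈ Subgroup.closure _
  · have h1 : π v * xo A i t * (π v)⁻¹ ∈ T.rootGen F (T.negSet (A.S.wJ A.O k)) :=
      conj_mem_rootGen hT hv.2 (fun r ⟨_, h, h'⟩ => ⟨(w r).2, hwk r h h'⟩) (xo_mem_negSet A i t)
    obtain ⟨u, hu, e⟩ := A.exists_word k (Subgroup.mem_inf.mpr
      ⟨mul_mem (mul_mem hvf (A.pos_fix i.2 (mem_par A |>.mp t.2))) (inv_mem hvf), h1⟩)
    refine Subgroup.subset_closure (Or.inl ⟨⟨u, (mem_par A).mpr hu⟩, ?_⟩)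
    refine (X.eq_of_isP ?_ ((X.xl_isP i t).conj v) (X.xl_isP k _)).symm
    rw [map_mul, map_mul, map_inv, X.xl_img, X.xl_img]
    exact e
  · obtain ⟨hab, hab', -, -⟩ := A.facts k.2
    have hN1 := mono_cycN A k 1
    rw [Units.val_one] at hN1
    set z := π v * yo A i t * (π v)⁻¹ with hz
    have h1 : z ∈ T.rootGen F
        (fun r => ∃ h : r < T.n, r < T.half ∧ T.half ≤ (A.S.wJ A.O k ⟨r, h⟩).val) := by
      refine conj_mem_rootGen hT hv.2 (fun r ⟨_, h, h'⟩ => ⟨(w r).2, ?_⟩) (A.neg_word_VJ i t)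
      obtain ⟨h2, h3⟩ := hwk (T.negF r) (le_negF h) (by
        rw [WP_negF hT (A.S.wJ_mem A.O i).1]; exact negF_lt h')
      rw [hv.2.negEq] at h2 h3
      rw [WP_negF hT (A.S.wJ_mem A.O k).1] at h3
      refine ⟨?_, ?_⟩
      · by_contra h4; exact absurd h2 (not_le.mpr (negF_lt (not_lt.mp h4)))
      · by_contra h4; exact absurd h3 (not_lt.mpr (le_negF (not_le.mp h4)))
    have hzf : z ∈ A.S.fix :=
      mul_mem (mul_mem hvf (A.neg_fix i.2 (mem_par A |>.mp t.2))) (inv_mem hvf)
    have hnf : cycN A.D (A.L k) 1 ∈ A.S.fix := cycN_fix A k.2 (A.fit_one k)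
    have h2 : cycN A.D (A.L k) 1 * z * (cycN A.D (A.L k) 1)⁻¹ ∈ T.rootGen F (T.negSet (A.S.wJ A.O k)) := by
      refine conj_mem_rootGen hT hN1 (fun r ⟨hr, h, h'⟩ => ⟨(A.S.wJ A.O k r).2, h', ?_⟩) h1
      show ((A.S.wJ A.O k) (A.S.wJ A.O k ⟨_, hr⟩)).val < T.half
      rw [A.S.wJ_wJ A.O k]; exact h
    obtain ⟨u, hu, e⟩ := A.exists_word k (Subgroup.mem_inf.mpr
      ⟨mul_mem (mul_mem hnf hzf) (inv_mem hnf), h2⟩)
    have h3 := cycN_conj A.D hab hab' (t := (-1 : F)) (neg_ne_zero.mpr one_ne_zero) u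
    have h4 : cycN A.D (A.L k) (-1) = (cycN A.D (A.L k) 1)⁻¹ :=
      eq_inv_of_mul_eq_one_left (cycN_neg A.D hab hab' 1)
    rw [← e, h4, neg_one_sq, div_one] at h3
    have h5 : z = yo A k (-u) := by
      rw [← mul_left_inj (cycN A.D (A.L k) 1)⁻¹, yo]
      rw [← h3]; group
    refine Subgroup.subset_closure (Or.inr ⟨⟨-u, (mem_par A).mpr (A.fit_neg hu)⟩, ?_⟩)
    refine (X.eq_of_isP ?_ ((X.yl_isP i t).conj v) (X.yl_isP k _)).symm
    rw [map_mul, map_mul, map_inv, X.yl_img, X.yl_img]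
    exact h5

theorem n_mem (j : Fin A.o) (t : par A j) :
    (X.R j).n t ∈ Subgroup.closure (Set.range (X.R j).x ∪ Set.range (X.R j).y) :=
  mul_mem (mul_mem (Subgroup.subset_closure (Or.inl ⟨_, rfl⟩)) (Subgroup.subset_closure (Or.inr ⟨_, rfl⟩)))
    (Subgroup.subset_closure (Or.inl ⟨_, rfl⟩))

theorem h_mem (j : Fin A.o) (t : par A j) :
    (X.R j).h t ∈ Subgroup.closure (Set.range (X.R j).x ∪ Set.range (X.R j).y) :=
  mul_mem (X.n_mem j t) (X.n_mem j _)

end TwExt

end CfsgLib.KnownA.TwistMultiplier
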